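import Mathlib

/-!
Upper bound for element orders of `Sp₈(q)`, `q` even: the characteristic polynomial of an element divides
`X ^ M - 1` for one of twelve explicit numbers `M`.
-/

set_option autoImplicit false

namespace Cfsg.Agent.Lib.SpectrumEight

open Polynomial Matrix

/-- The two-parts (as exponents). -/
def eTab : Fin 12 → ℕ := ![0, 0, 0, 0, 1, 1, 1, 1, 2, 2, 3, 3]

/-- The odd parts. -/
def mTab (q : ℕ) : Fin 12 → ℕ :=
  ![q ^ 4 + 1, q ^ 4 - 1, (q ^ 3 + 1) * (q - 1), (q ^ 3 - 1) * (q + 1), q ^ 3 + 1, q ^ 3 - 1,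
    (q ^ 2 + 1) * (q + 1), (q ^ 2 + 1) * (q - 1), q ^ 2 + 1, q ^ 2 - 1, q + 1, q - 1]

/-- The twelve orders. -/
def ordTab (q : ℕ) (j : Fin 12) : ℕ := 2 ^ eTab j * mTab q j

/-- Degree of a class of eigenvalues. -/
def dKey : Fin 8 → ℕ := ![4, 4, 3, 3, 2, 2, 1, 1]

/-- Type of a class of eigenvalues: `true` for `q ^ d + 1`. -/
def sKey : Fin 8 → Bool := ![false, true, false, true, false, true, false, true]

/-- The classes allowed for each order. -/
def allow : Fin 12 → List (Fin 8) :=
  ![[1], [0, 4, 5, 6, 7], [3, 6, 7], [2, 6, 7], [3, 7], [2, 6], [5, 7], [5, 6], [5], [4, 6, 7], [7], [6]]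

/-- The exponent `q ^ d ± 1` of a class. -/
def kExp (q : ℕ) (k : Fin 8) : ℕ := if sKey k then q ^ dKey k + 1 else q ^ dKey k - 1

theorem kExp_dvd (q : ℕ) (j : Fin 12) (k : Fin 8) (h : k ∈ allow j) : kExp q k ∣ mTab q j := by
  have hq1 : q - 1 ∣ q ^ 3 - 1 := by simpa using Nat.sub_dvd_pow_sub_pow q 1 3
  have hq2 : q ^ 4 - 1 = (q ^ 2 + 1) * (q ^ 2 - 1) := by
    rw [show q ^ 4 = (q ^ 2) ^ 2 by ring]
    simpa using Nat.sq_sub_sq (q ^ 2) 1
  have hq3 : q ^ 2 - 1 = (q + 1) * (q - 1) := by simpa using Nat.sq_sub_sq q 1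
  have hq4 : q + 1 ∣ q ^ 3 + 1 := by simpa using (Odd.nat_add_dvd_pow_add_pow q 1 (n := 3) (by decide))
  fin_cases j <;> fin_cases k <;>
    simp [allow, kExp, sKey, dKey, mTab] at h ⊢ <;>
    first
    | exact dvd_mul_of_dvd_left hq4 _
    | exact dvd_mul_of_dvd_left hq1 _
    | exact hq1
    | exact hq4
    | (rw [hq2]; exact dvd_mul_left _ _)
    | (rw [hq2]; exact dvd_mul_right _ _)
    | (rw [hq2, hq3]; exact dvd_mul_of_dvd_right (dvd_mul_left _ _) _)
    | (rw [hq2, hq3]; exact dvd_mul_of_dvd_right (dvd_mul_right _ _) _)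
    | (rw [hq3]; exact dvd_mul_left _ _)
    | (rw [hq3]; exact dvd_mul_right _ _)

theorem mTab_pos {q : ℕ} (hq : 2 ≤ q) (j : Fin 12) : 0 < mTab q j := by
  have h : ∀ i, i ≠ 0 → 1 < q ^ i := fun i hi => Nat.one_lt_pow hi (by omega)
  have h3 := h 3 (by norm_num); have h2 := h 2 (by norm_num); have h4 := h 4 (by norm_num)
  fin_cases j <;> simp [mTab] <;> omega

theorem even_mTab {q : ℕ} (hq : Even q) (hq0 : q ≠ 0) (j : Fin 12) : Odd (mTab q j) := by
  have hp : ∀ i, i ≠ 0 → Even (q ^ i) := fun i hi => (Nat.even_pow).2 ⟨hq, hi⟩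
  have hpos : ∀ i, 1 ≤ q ^ i := fun i => Nat.one_le_iff_ne_zero.2 (pow_ne_zero _ hq0)
  have ha : ∀ i, i ≠ 0 → Odd (q ^ i + 1) := fun i hi => (hp i hi).add_one
  have hb : ∀ i, i ≠ 0 → Odd (q ^ i - 1) := fun i hi => Nat.Even.sub_odd (hpos i) (hp i hi) odd_one
  have ha1 : Odd (q + 1) := by simpa using ha 1 one_ne_zero
  have hb1 : Odd (q - 1) := by simpa using hb 1 one_ne_zero
  fin_cases j <;> simp [mTab, Nat.odd_mul, ha1, hb1, ha 2 (by norm_num), ha 3 (by norm_num),
    ha 4 (by norm_num), hb 2 (by norm_num), hb 3 (by norm_num), hb 4 (by norm_num)]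

theorem key_ext : ∀ k k' : Fin 8, dKey k = dKey k' → sKey k = sKey k' → k = k' := by
  decide +kernel

theorem table_cover : ∀ (a b c d : Fin 2) (e f : Fin 3) (g h : Fin 5),
    4 * (a.val + b.val) + 3 * (c.val + d.val) + 2 * (e.val + f.val) + (g.val + h.val) ≤ 4 →
    ∃ j : Fin 12, (∀ k : Fin 8, ![a.val, b.val, c.val, d.val, e.val, f.val, g.val, h.val] k ≠ 0 → k ∈ allow j) ∧
      2 * (4 - (4 * (a.val + b.val) + 3 * (c.val + d.val) + 2 * (e.val + f.val) + (g.val + h.val))) ≤ 2 ^ eTab j ∧
      ∀ k : Fin 8, ![a.val, b.val, c.val, d.val, e.val, f.val, g.val, h.val] k ≤ 2 ^ eTab j := by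
  decide +kernel

theorem cover (n : Fin 8 → ℕ) (h : ∑ k, dKey k * n k ≤ 4) :
    ∃ j : Fin 12, (∀ k, n k ≠ 0 → k ∈ allow j) ∧ 2 * (4 - ∑ k, dKey k * n k) ≤ 2 ^ eTab j ∧
      ∀ k, n k ≤ 2 ^ eTab j := by
  have hs : ∑ k, dKey k * n k =
      4 * (n 0 + n 1) + 3 * (n 2 + n 3) + 2 * (n 4 + n 5) + (n 6 + n 7) := by
    simp [Fin.sum_univ_eight, dKey]; ring
  rw [hs] at h ⊢
  have hn : n = ![n 0, n 1, n 2, n 3, n 4, n 5, n 6, n 7] := by
    funext k; fin_cases k <;> rfl
  obtain ⟨j, h1, h2, h3⟩ := table_cover ⟨n 0, by omega⟩ ⟨n 1, by omega⟩ ⟨n 2, by omega⟩ ⟨n 3, by omega⟩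
    ⟨n 4, by omega⟩ ⟨n 5, by omega⟩ ⟨n 6, by omega⟩ ⟨n 7, by omega⟩ h
  exact ⟨j, fun k hk => h1 k (by rw [hn] at hk; exact hk), h2, fun k => by rw [hn]; exact h3 k⟩

section Multiset

variable {K : Type*} [Field K]

/-- The class `k` of `x`: `x ≠ 1`, `x ^ (q ^ d) = x ^ (±1)` with `d` minimal. -/
def InClass (q : ℕ) (k : Fin 8) (x : K) : Prop :=
  x ≠ 1 ∧ x ^ q ^ dKey k = (if sKey k then x⁻¹ else x) ∧
    ∀ i, 0 < i → i < dKey k → x ^ q ^ i ≠ x ∧ x ^ q ^ i ≠ x⁻¹

theorem InClass.pow_eq_one {q : ℕ} (hq : q ≠ 0) {k : Fin 8} {x : K} (hx0 : x ≠ 0) (h : InClass q k x) :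
    x ^ kExp q k = 1 := by
  have h2 := h.2.1
  unfold kExp
  split_ifs with hs
  · rw [if_pos hs] at h2
    rw [pow_succ, h2, inv_mul_cancel₀ hx0]
  · rw [if_neg hs] at h2
    rw [pow_sub₀ _ hx0 (Nat.one_le_iff_ne_zero.2 (pow_ne_zero _ hq)), h2, pow_one, mul_inv_cancel₀ hx0]

/-- A multiset of eight eigenvalues stable under `x ↦ x ^ q` and inversion fits one of the twelve rows. -/
theorem exists_row [DecidableEq K] {q : ℕ} (hq : q ≠ 0) (hinj : Function.Injective fun x : K => x ^ q)
    (hsq : ∀ x : K, x * x = 1 → x = 1) (R : Multiset K) (hcard : Multiset.card R = 8) (h0 : (0 : K) ∉ R)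
    (hF : R.map (· ^ q) = R) (hI : R.map (·⁻¹) = R) :
    ∃ j : Fin 12, ∀ x ∈ R, x ^ mTab q j = 1 ∧ R.count x ≤ 2 ^ eTab j := by
  have hcF : ∀ x : K, R.count (x ^ q) = R.count x := fun x => by
    conv_lhs => rw [← hF]
    exact Multiset.count_map_eq_count' _ R hinj x
  have hcI : ∀ x : K, R.count x⁻¹ = R.count x := fun x => by
    conv_lhs => rw [← hI]
    exact Multiset.count_map_eq_count' _ R inv_injective x
  have hit : ∀ i : ℕ, Function.Injective fun x : K => x ^ q ^ i := by
    intro i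
    induction i with
    | zero => intro a b h; simpa using h
    | succ i ih => intro a b h; exact ih (hinj (by simpa [← pow_mul, ← pow_succ] using h))
  have hcFi : ∀ (i : ℕ) (x : K), R.count (x ^ q ^ i) = R.count x := by
    intro i
    induction i with
    | zero => intro x; simp
    | succ i ih => intro x; rw [pow_succ, pow_mul, hcF, ih]
  -- orbit representatives
  let orb : ℕ → K → Finset K := fun d x =>
    (Finset.range d).image (fun i => x ^ q ^ i) ∪ (Finset.range d).image (fun i => (x ^ q ^ i)⁻¹)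
  have horb : ∀ (d : ℕ) (x : K), x ≠ 1 → x ≠ 0 →
      (∀ i, 0 < i → i < d → x ^ q ^ i ≠ x ∧ x ^ q ^ i ≠ x⁻¹) → (orb d x).card = 2 * d := by
    intro d x hx1 hx0 hmin
    have hlt : ∀ i j, i < j → j < d → x ^ q ^ i ≠ x ^ q ^ j ∧ (x ^ q ^ i)⁻¹ ≠ x ^ q ^ j := by
      intro i j hij hjd
      have h := hmin (j - i) (by omega) (by omega)
      have he : x ^ q ^ j = (x ^ q ^ (j - i)) ^ q ^ i := by
        rw [← pow_mul, ← pow_add, Nat.sub_add_cancel hij.le]
      rw [he, ← inv_pow]
      exact ⟨fun e => h.1 (hit i e).symm, fun e => h.2 (hit i e).symm⟩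
    have hinj1 : Set.InjOn (fun i => x ^ q ^ i) (Finset.range d : Set ℕ) := by
      intro i hi j hj e
      simp only [Finset.coe_range, Set.mem_Iio] at hi hj
      rcases lt_trichotomy i j with h | h | h
      · exact absurd e (hlt i j h hj).1
      · exact h
      · exact absurd e.symm (hlt j i h hi).1
    have hinj2 : Set.InjOn (fun i => (x ^ q ^ i)⁻¹) (Finset.range d : Set ℕ) := fun i hi j hj e =>
      hinj1 hi hj (inv_injective e)
    have hdisj : Disjoint ((Finset.range d).image (fun i => x ^ q ^ i))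
        ((Finset.range d).image (fun i => (x ^ q ^ i)⁻¹)) := by
      rw [Finset.disjoint_left]
      intro y hy hy'
      obtain ⟨i, hi, rfl⟩ := Finset.mem_image.1 hy
      obtain ⟨j, hj, e⟩ := Finset.mem_image.1 hy'
      rw [Finset.mem_range] at hi hj
      rcases lt_trichotomy i j with h | h | h
      · exact (hlt i j h hj).2 (by rw [← e, inv_inv])
      · subst h
        refine hx1 (hit i ?_)
        show x ^ q ^ i = 1 ^ q ^ i
        rw [one_pow]
        refine hsq _ ?_
        nth_rw 1 [← e]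
        exact inv_mul_cancel₀ (pow_ne_zero _ hx0)
      · exact (hlt j i h hi).2 e
    rw [Finset.card_union_of_disjoint hdisj, Finset.card_image_of_injOn hinj1,
      Finset.card_image_of_injOn hinj2, Finset.card_range, two_mul]
  -- every eigenvalue `≠ 1` has a class
  have horbR : ∀ d x, x ∈ R → ∀ y ∈ orb d x, R.count y = R.count x := by
    intro d x _ y hy
    rcases Finset.mem_union.1 hy with h | h <;> obtain ⟨i, -, rfl⟩ := Finset.mem_image.1 h
    · exact hcFi i x
    · rw [hcI, hcFi]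
  have hsum : ∀ s : Finset K, (∑ y ∈ s, R.count y) ≤ 8 := fun s => by
    calc (∑ y ∈ s, R.count y) ≤ ∑ y ∈ s ∪ R.toFinset, R.count y :=
          Finset.sum_le_sum_of_subset Finset.subset_union_left
      _ = 8 := by
          rw [← hcard]
          exact Multiset.sum_count_eq_card fun a ha => Finset.mem_union_right _ (Multiset.mem_toFinset.2 ha)
  have hex : ∀ x ∈ R, x ≠ 1 → ∃ k, InClass q k x := by
    intro x hx hx1
    have hc : 1 ≤ R.count x := Multiset.count_pos.2 hx
    have hP : ∃ d, 0 < d ∧ (x ^ q ^ d = x ∨ x ^ q ^ d = x⁻¹) ∧ d ≤ 4 := by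
      by_contra hcon
      push Not at hcon
      have h5 := horb 5 x hx1 (fun e => h0 (e ▸ hx)) fun i hi hi5 =>
        ⟨fun e => absurd (hcon i hi (Or.inl e)) (by omega), fun e => absurd (hcon i hi (Or.inr e)) (by omega)⟩
      have := hsum (orb 5 x)
      rw [Finset.sum_congr rfl (horbR 5 x hx), Finset.sum_const, h5, smul_eq_mul] at this
      omega
    obtain ⟨hd0, hd, hd4⟩ := Nat.find_spec hP
    set d := Nat.find hP with hddef
    have hmin : ∀ i, 0 < i → i < d → x ^ q ^ i ≠ x ∧ x ^ q ^ i ≠ x⁻¹ := fun i hi hid =>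
      ⟨fun e => Nat.find_min hP hid ⟨hi, Or.inl e, by omega⟩,
        fun e => Nat.find_min hP hid ⟨hi, Or.inr e, by omega⟩⟩
    have key : ∀ k, dKey k = d → x ^ q ^ d = (if sKey k then x⁻¹ else x) → InClass q k x := fun k hk he =>
      ⟨hx1, by rw [hk]; exact he, by rw [hk]; exact hmin⟩
    rcases hd with he | he
    · interval_cases d
      · exact ⟨6, key 6 rfl (by simpa [sKey] using he)⟩
      · exact ⟨4, key 4 rfl (by simpa [sKey] using he)⟩
      · exact ⟨2, key 2 rfl (by simpa [sKey] using he)⟩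
      · exact ⟨0, key 0 rfl (by simpa [sKey] using he)⟩
    · interval_cases d
      · exact ⟨7, key 7 rfl (by simpa [sKey] using he)⟩
      · exact ⟨5, key 5 rfl (by simpa [sKey] using he)⟩
      · exact ⟨3, key 3 rfl (by simpa [sKey] using he)⟩
      · exact ⟨1, key 1 rfl (by simpa [sKey] using he)⟩
  have hne0 : ∀ x ∈ R, x ≠ 0 := fun x hx e => h0 (e ▸ hx)
  have huniq : ∀ k k' x, x ∈ R → InClass q k x → InClass q k' x → k = k' := by
    intro k k' x hx hk hk'
    have hd : dKey k = dKey k' := by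
      rcases lt_trichotomy (dKey k) (dKey k') with h | h | h
      · have := hk'.2.2 _ (by fin_cases k <;> simp [dKey]) h
        have e := hk.2.1
        split_ifs at e
        · exact absurd e this.2
        · exact absurd e this.1
      · exact h
      · have := hk.2.2 _ (by fin_cases k' <;> simp [dKey]) h
        have e := hk'.2.1
        split_ifs at e
        · exact absurd e this.2
        · exact absurd e this.1
    have hs : sKey k = sKey k' := by
      have hinv : x⁻¹ ≠ x := fun e => hk.1 (hsq x (by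
        nth_rw 1 [← e]; exact inv_mul_cancel₀ (hne0 x hx)))
      have e := hk.2.1
      have e' := hk'.2.1
      rw [hd] at e
      have e' : (if sKey k' then x⁻¹ else x) = (if sKey k then x⁻¹ else x) := e'.symm.trans e
      by_contra hne
      cases h1 : sKey k <;> cases h2 : sKey k'
      · exact hne (h1.trans h2.symm)
      · exact hinv (by simpa only [h1, h2, Bool.false_eq_true, if_false, if_true] using e')
      · exact hinv (Eq.symm (by simpa only [h1, h2, Bool.false_eq_true, if_false, if_true] using e'))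
      · exact hne (h1.trans h2.symm)
    exact key_ext k k' hd hs
  classical
  let C : Fin 8 → Finset K := fun k => R.toFinset.filter fun x => InClass q k x
  let N : Fin 8 → ℕ := fun k => ∑ y ∈ C k, R.count y
  have hbig : ∀ k, ∀ x ∈ C k, 2 * dKey k * R.count x ≤ N k := by
    intro k x hx
    obtain ⟨hxR, hk⟩ := Finset.mem_filter.1 hx
    rw [Multiset.mem_toFinset] at hxR
    have hsub : orb (dKey k) x ⊆ C k := by
      intro y hy
      have hyR : y ∈ R.toFinset := by
        rw [Multiset.mem_toFinset, ← Multiset.count_pos, horbR _ x hxR y hy]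
        exact Multiset.count_pos.2 hxR
      refine Finset.mem_filter.2 ⟨hyR, ?_⟩
      have hpow : ∀ i : ℕ, InClass q k (x ^ q ^ i) := by
        intro i
        have hc : ∀ j : ℕ, (x ^ q ^ i) ^ q ^ j = (x ^ q ^ j) ^ q ^ i := fun j => by
          rw [← pow_mul, ← pow_mul, mul_comm]
        refine ⟨fun e => hk.1 (hit i (by simpa using e)), ?_, fun j hj hjd => ⟨fun e => ?_, fun e => ?_⟩⟩
        · rw [hc, hk.2.1]
          split_ifs <;> simp [inv_pow]
        · rw [hc] at e; exact (hk.2.2 j hj hjd).1 (hit i e)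
        · rw [hc, ← inv_pow] at e; exact (hk.2.2 j hj hjd).2 (hit i e)
      rcases Finset.mem_union.1 hy with h | h <;> obtain ⟨i, -, rfl⟩ := Finset.mem_image.1 h
      · exact hpow i
      · obtain ⟨a, b, c⟩ := hpow i
        refine ⟨by simpa using a, ?_, fun j hj hjd => ?_⟩
        · rw [inv_pow, b]; split_ifs <;> simp
        · rw [inv_pow]
          exact ⟨fun e => (c j hj hjd).1 (inv_injective e), fun e => (c j hj hjd).2 (inv_injective e)⟩
    have h2 := Finset.sum_le_sum_of_subset (f := fun y => R.count y) hsub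
    rw [Finset.sum_congr rfl (horbR (dKey k) x hxR), Finset.sum_const, smul_eq_mul,
      horb _ x hk.1 (hne0 x hxR) hk.2.2] at h2
    exact h2
  have htot : (∑ k, N k) + R.count 1 ≤ 8 := by
    have hd : ((Finset.univ : Finset (Fin 8)) : Set (Fin 8)).PairwiseDisjoint C := by
      intro k _ k' _ hkk
      rw [Function.onFun, Finset.disjoint_left]
      intro x hx hx'
      exact hkk (huniq k k' x (Multiset.mem_toFinset.1 (Finset.mem_filter.1 hx).1)
        (Finset.mem_filter.1 hx).2 (Finset.mem_filter.1 hx').2)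
    rw [show (∑ k, N k) = ∑ y ∈ Finset.univ.biUnion C, R.count y from (Finset.sum_biUnion hd).symm]
    have h1 : (1 : K) ∉ Finset.univ.biUnion C := by
      intro h
      obtain ⟨k, -, hk⟩ := Finset.mem_biUnion.1 h
      exact (Finset.mem_filter.1 hk).2.1 rfl
    calc _ = ∑ y ∈ insert 1 (Finset.univ.biUnion C), R.count y := by rw [Finset.sum_insert h1, add_comm]
      _ ≤ 8 := hsum _
  let n : Fin 8 → ℕ := fun k => N k / (2 * dKey k)
  have hn : ∀ k, 2 * (dKey k * n k) ≤ N k := fun k => by
    rw [← mul_assoc]; exact Nat.mul_div_le _ _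
  have hsumn : 2 * ∑ k, dKey k * n k ≤ ∑ k, N k := by
    rw [Finset.mul_sum]; exact Finset.sum_le_sum fun k _ => hn k
  obtain ⟨j, hj1, hj2, hj3⟩ := cover n (by omega)
  refine ⟨j, fun x hx => ?_⟩
  rcases eq_or_ne x 1 with rfl | hx1
  · exact ⟨one_pow _, by omega⟩
  · obtain ⟨k, hk⟩ := hex x hx hx1
    have hxC : x ∈ C k := Finset.mem_filter.2 ⟨Multiset.mem_toFinset.2 hx, hk⟩
    have hle : R.count x ≤ n k := by
      rw [Nat.le_div_iff_mul_le (by fin_cases k <;> simp [dKey])]
      rw [mul_comm]; exact hbig k x hxC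
    have hc : 1 ≤ R.count x := Multiset.count_pos.2 hx
    refine ⟨?_, hle.trans (hj3 k)⟩
    obtain ⟨t, ht⟩ := kExp_dvd q j k (hj1 k (by omega))
    rw [ht, pow_mul, hk.pow_eq_one hq (hne0 x hx), one_pow]

end Multiset

theorem dvd_of_map_dvd {F K : Type*} [Field F] [Field K] (φ : F →+* K) {g : F[X]} (hg : g.Monic) (M : ℕ)
    (h : g.map φ ∣ X ^ M - 1) : g ∣ X ^ M - 1 := by
  refine (Polynomial.map_dvd_map φ φ.injective hg).1 ?_
  rwa [Polynomial.map_sub, Polynomial.map_pow, map_X, Polynomial.map_one]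

/-- The characteristic polynomial of a symplectic matrix is self-reciprocal. -/
theorem reverse_charpoly_of_mem {l : Type*} [Fintype l] [DecidableEq l] {F : Type*} [Field F]
    {A : Matrix (l ⊕ l) (l ⊕ l) F} (hA : A ∈ Matrix.symplecticGroup l F) :
    A.charpoly.reverse = A.charpoly := by
  have hdet : A.det = 1 := SymplecticGroup.det_eq_one hA
  have hunit : IsUnit A := (Matrix.isUnit_iff_isUnit_det A).2 (by rw [hdet]; exact isUnit_one)
  -- the inverse has the same characteristic polynomial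
  have hinv : A⁻¹.charpoly = A.charpoly := by
    have hJ : IsUnit (Matrix.J l F) := (Matrix.isUnit_iff_isUnit_det _).2 (Matrix.isUnit_det_J _ _)
    obtain ⟨u, hu⟩ := hJ
    rw [SymplecticGroup.inv_eq_symplectic_inv A hA, ← Matrix.charpoly_transpose A]
    have h := Matrix.charpoly_units_conj' u Aᵀ
    rw [hu, Matrix.J_inv] at h
    simpa [Matrix.mul_assoc] using h
  have hrev : A.charpoly.reverse = A.charpoly := by
    conv_rhs => rw [← hinv, Matrix.charpoly_inv A hunit]
    rw [Matrix.reverse_charpoly]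
    simp [hdet, Fintype.card_sum, ← two_mul, pow_mul]
  exact hrev

variable {F : Type*} [Field F] [Fintype F] [CharP F 2]

/-- The characteristic polynomial of an element of `Sp₈(q)` divides `X ^ M - 1` for one of the twelve `M`. -/
theorem charpoly_dvd {A : Matrix (Fin 4 ⊕ Fin 4) (Fin 4 ⊕ Fin 4) F} (hA : A ∈ Matrix.symplecticGroup (Fin 4) F) :
    ∃ j : Fin 12, A.charpoly ∣ X ^ ordTab (Fintype.card F) j - 1 := by
  classical
  set q := Fintype.card F with hqdef
  have hdet : A.det = 1 := SymplecticGroup.det_eq_one hA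
  have hrev : A.charpoly.reverse = A.charpoly := reverse_charpoly_of_mem hA
  let K := AlgebraicClosure F
  haveI : CharP K 2 := charP_of_injective_algebraMap (algebraMap F K).injective 2
  set f := A.charpoly.map (algebraMap F K) with hf
  have hmon : f.Monic := (Matrix.charpoly_monic A).map _
  have hsplit : f.Splits := IsAlgClosed.splits f
  set R := f.roots with hR
  have hprod : f = (R.map fun a => X - C a).prod := hsplit.eq_prod_roots_of_monic hmon
  have hcard : Multiset.card R = 8 := by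
    rw [hR, ← hsplit.natDegree_eq_card_roots, hf, Polynomial.natDegree_map,
      Matrix.charpoly_natDegree_eq_dim]
    simp
  have hconst : A.charpoly.coeff 0 ≠ 0 := by
    intro h
    have h' := Matrix.det_eq_sign_charpoly_coeff A
    rw [hdet, h, mul_zero] at h'
    exact one_ne_zero h'
  have h0 : (0 : K) ∉ R := by
    intro h
    have := Polynomial.isRoot_of_mem_roots h
    rw [Polynomial.IsRoot, ← Polynomial.coeff_zero_eq_eval_zero, hf, Polynomial.coeff_map] at this
    exact hconst ((algebraMap F K).injective (by rw [this, map_zero]))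
  have hsq : ∀ x : K, x * x = 1 → x = 1 := fun x hx => by
    refine CharTwo.sq_inj.1 ?_
    rw [one_pow, pow_two, hx]
  have hinjq : Function.Injective fun x : K => x ^ q := by
    intro a b h
    obtain ⟨N, -, hN⟩ := FiniteField.card F 2
    simp only [hqdef, hN] at h
    exact (iterateFrobenius K 2 N).injective (by simpa [iterateFrobenius_def] using h)
  have hF : R.map (· ^ q) = R := by
    obtain ⟨N, -, hN⟩ := FiniteField.card F 2
    let φ : K →+* K := iterateFrobenius K 2 N
    have hφ : ∀ x, φ x = x ^ q := fun x => by rw [iterateFrobenius_def, hqdef, hN]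
    have hcomp : φ.comp (algebraMap F K) = algebraMap F K := RingHom.ext fun a => by
      rw [RingHom.comp_apply, hφ, ← map_pow, hqdef, FiniteField.pow_card]
    calc R.map (· ^ q) = R.map φ := Multiset.map_congr rfl fun x _ => (hφ x).symm
      _ = (f.map φ).roots := (hsplit.roots_map_of_injective φ.injective).symm
      _ = R := by rw [hR, hf, Polynomial.map_map, hcomp]
  have hI : R.map (·⁻¹) = R := by
    have hg : ∀ S : Multiset K, (0 : K) ∉ S → ∃ c : K, c ≠ 0 ∧
        (S.map fun a => X - C a).prod.reverse = C c * ((S.map (·⁻¹)).map fun a => X - C a).prod := by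
      intro S
      induction S using Multiset.induction_on with
      | empty => intro _; exact ⟨1, one_ne_zero, by simp [reverse]⟩
      | cons a S ih =>
        intro ha
        rw [Multiset.mem_cons, not_or] at ha
        obtain ⟨c, hc, e⟩ := ih ha.2
        have ha0 : a ≠ 0 := Ne.symm ha.1
        refine ⟨-a * c, mul_ne_zero (neg_ne_zero.2 ha0) hc, ?_⟩
        simp only [Multiset.map_cons, Multiset.prod_cons, reverse_mul_of_domain, e]
        have hrev : (X - C a : K[X]).reverse = C (-a) * (X - C a⁻¹) := by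
          have e1 : C (-a) * (X - C a⁻¹) = C (-a) * X + C 1 := by
            rw [mul_sub, ← C_mul, neg_mul, mul_inv_cancel₀ ha0, C_neg (a := (1 : K)), sub_neg_eq_add]
          rw [e1]
          refine Polynomial.ext fun i => ?_
          rw [coeff_reverse, natDegree_X_sub_C, coeff_add, coeff_C_mul]
          rcases i with _ | _ | i
          · simp [revAt_le (Nat.zero_le 1)]
          · simp [revAt_le (le_refl 1), coeff_one]
          · rw [revAt_eq_self_of_lt (by omega : 1 < i + 1 + 1)]
            simp [coeff_X, coeff_C, coeff_one]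
        rw [hrev, C_mul]
        ring
    obtain ⟨c, hc, e⟩ := hg R h0
    rw [← hprod] at e
    have hfrev : f.reverse = f := by
      conv_rhs => rw [hf, ← hrev]
      rw [hf, reverse, reverse, natDegree_map, reflect_map]
    have := congrArg Polynomial.roots e
    rw [hfrev, Polynomial.roots_C_mul _ hc, Polynomial.roots_multiset_prod_X_sub_C] at this
    exact this.symm
  obtain ⟨j, hj⟩ := exists_row (Fintype.card_ne_zero (α := F)) hinjq hsq R hcard h0 hF hI
  refine ⟨j, ?_⟩
  have hdesc : ∀ M : ℕ, f ∣ X ^ M - 1 → A.charpoly ∣ X ^ M - 1 := fun M h =>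
    dvd_of_map_dvd (algebraMap F K) (Matrix.charpoly_monic A) M h
  refine hdesc _ ?_
  have hm : Odd (mTab q j) := by
    refine even_mTab ?_ Fintype.card_ne_zero j
    obtain ⟨N, -, hN⟩ := FiniteField.card F 2
    rw [hN]; exact (Nat.even_pow).2 ⟨even_two, N.ne_zero⟩
  have hpow : (X : K[X]) ^ ordTab q j - 1 = (X ^ mTab q j - 1) ^ 2 ^ eTab j := by
    rw [ordTab, sub_pow_char_pow, one_pow, ← pow_mul, mul_comm]
  rw [hpow, hprod]
  have hne : (X ^ mTab q j - 1 : K[X]) ≠ 0 := (monic_X_pow_sub_C 1 hm.pos.ne').ne_zero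
  rw [Multiset.prod_X_sub_C_dvd_iff_le_roots (pow_ne_zero _ hne), Polynomial.roots_pow, Multiset.le_iff_count]
  intro x
  by_cases hx : x ∈ R
  · obtain ⟨hx1, hx2⟩ := hj x hx
    have h1 : 1 ≤ (X ^ mTab q j - 1 : K[X]).roots.count x := by
      rw [Nat.one_le_iff_ne_zero, ← Nat.pos_iff_ne_zero, Multiset.count_pos, mem_roots hne]
      simpa [sub_eq_zero] using hx1
    rw [Multiset.count_nsmul]
    calc R.count x ≤ 2 ^ eTab j * 1 := by simpa using hx2
      _ ≤ _ := Nat.mul_le_mul_left _ h1
  · rw [Multiset.count_eq_zero_of_notMem hx]; exact Nat.zero_le _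

end Cfsg.Agent.Lib.SpectrumEight
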