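import Mathlib
import Cfsg.Agent.Lib.OrthPrime.Quad

/-!
Isometries of prescribed order: tori of orders `q ^ d ± 1`, orthogonal sums.
-/

set_option autoImplicit false
set_option linter.unusedSectionVars false

namespace Cfsg.Agent.Lib.SpectrumEight

open QuadraticMap

universe u

variable {F : Type u} [Field F] [Fintype F]

/-- An isometry of order `n` of a non-degenerate `2 k`-dimensional quadratic space of sign `s`. -/
def Ord (F : Type u) [Field F] [Fintype F] (k : ℕ) (s : ℤ) (n : ℕ) : Prop :=
  ∃ (R : QuadraticForm F (Fin (2 * k) → F)) (e : (Fin (2 * k) → F) ≃ₗ[F] (Fin (2 * k) → F)),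
    (polarBilin R).Nondegenerate ∧ OrthPrime.qsgn R = s ∧ (∀ v, R (e v) = R v) ∧ orderOf e = n

/-- Transport of automorphisms along an equivalence. -/
def conjHom {V W : Type*} [AddCommGroup V] [Module F V] [AddCommGroup W] [Module F W] (φ : V ≃ₗ[F] W) :
    (V ≃ₗ[F] V) →* (W ≃ₗ[F] W) where
  toFun e := (φ.symm.trans e).trans φ
  map_one' := LinearEquiv.ext fun w => by simp
  map_mul' a b := LinearEquiv.ext fun w => by simp

theorem conjHom_injective {V W : Type*} [AddCommGroup V] [Module F V] [AddCommGroup W] [Module F W]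
    (φ : V ≃ₗ[F] W) : Function.Injective (conjHom φ) := fun a b h => LinearEquiv.ext fun v => by
  simpa [conjHom] using LinearEquiv.congr_fun h (φ v)

theorem Ord.mk' {W : Type*} [AddCommGroup W] [Module F W] [FiniteDimensional F W] (R : QuadraticForm F W)
    (e : W ≃ₗ[F] W) {k : ℕ} {s : ℤ} {n : ℕ} (hR : (polarBilin R).Nondegenerate)
    (hd : Module.finrank F W = 2 * k) (hs : OrthPrime.qsgn R = s) (he : ∀ v, R (e v) = R v)
    (ho : orderOf e = n) : Ord F k s n := by
  let φ : W ≃ₗ[F] (Fin (2 * k) → F) := (Module.finBasisOfFinrankEq F W hd).equivFun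
  have h : ∀ v, R.comp φ.symm.toLinearMap (φ v) = R v := fun v => by simp
  refine ⟨R.comp φ.symm.toLinearMap, conjHom φ e, FormConj.nondegenerate_congr φ h hR,
    by rw [OrthPrime.qsgn_congr φ h, hs], fun v => ?_, by rw [orderOf_injective _ (conjHom_injective φ), ho]⟩
  simp [conjHom, he]

theorem finite_equiv (W : Type*) [AddCommGroup W] [Module F W] [FiniteDimensional F W] :
    Finite (W ≃ₗ[F] W) :=
  haveI : Finite W := Module.finite_of_finite F
  Finite.of_injective (fun e => (e : W → W)) DFunLike.coe_injective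

theorem pow_iso {W : Type*} [AddCommGroup W] [Module F W] {R : QuadraticForm F W} {e : W ≃ₗ[F] W}
    (he : ∀ v, R (e v) = R v) (k : ℕ) : ∀ v, R ((e ^ k) v) = R v := by
  induction k with
  | zero => intro v; rfl
  | succ k ih => intro v; rw [pow_succ', LinearEquiv.mul_apply, he, ih]

theorem Ord.of_dvd {k : ℕ} {s : ℤ} {n m : ℕ} (h : Ord F k s n) (hm : m ∣ n) : Ord F k s m := by
  obtain ⟨R, e, hR, hs, he, ho⟩ := h
  haveI := finite_equiv (F := F) (Fin (2 * k) → F)
  have hn : 0 < orderOf e := orderOf_pos e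
  obtain ⟨c, rfl⟩ := hm
  refine ⟨R, e ^ c, hR, hs, pow_iso he c, ?_⟩
  rw [orderOf_pow, ho, Nat.gcd_mul_left_left, Nat.mul_div_cancel]
  rcases Nat.eq_zero_or_pos c with rfl | hc
  · rw [ho, mul_zero] at hn; exact absurd hn (lt_irrefl 0)
  · exact hc

/-- Orthogonal sums of automorphisms. -/
def prodHom (V W : Type*) [AddCommGroup V] [Module F V] [AddCommGroup W] [Module F W] :
    (V ≃ₗ[F] V) × (W ≃ₗ[F] W) →* ((V × W) ≃ₗ[F] (V × W)) where
  toFun p := p.1.prodCongr p.2
  map_one' := rfl
  map_mul' p p' := rfl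

theorem prodHom_injective (V W : Type*) [AddCommGroup V] [Module F V] [AddCommGroup W] [Module F W] :
    Function.Injective (prodHom (F := F) V W) := by
  rintro ⟨a, b⟩ ⟨a', b'⟩ h
  refine Prod.ext (LinearEquiv.ext fun v => ?_) (LinearEquiv.ext fun w => ?_)
  · exact congrArg Prod.fst (LinearEquiv.congr_fun h (v, 0))
  · exact congrArg Prod.snd (LinearEquiv.congr_fun h (0, w))

theorem Ord.sum {k l : ℕ} {s t : ℤ} {n m : ℕ} (h : Ord F k s n) (h' : Ord F l t m) :
    Ord F (k + l) (s * t) (Nat.lcm n m) := by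
  obtain ⟨R, e, hR, hs, he, ho⟩ := h
  obtain ⟨T, f, hT, hs', hf, ho'⟩ := h'
  have hd : Module.finrank F (Fin (2 * k) → F) = 2 * k := Module.finrank_fin_fun F
  have hd' : Module.finrank F (Fin (2 * l) → F) = 2 * l := Module.finrank_fin_fun F
  refine Ord.mk' (R.prod T) (prodHom (F := F) (Fin (2 * k) → F) (Fin (2 * l) → F) (e, f))
    (FormConj.prod_nondegenerate hR hT) (by rw [Module.finrank_prod, hd, hd', mul_add])
    (by rw [OrthPrime.qsgn_prod hd hd' hR hT, hs, hs']) (fun v => ?_) ?_
  · show R.prod T (e v.1, f v.2) = R.prod T v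
    simp [QuadraticMap.prod_apply, he, hf]
  · rw [orderOf_injective _ (prodHom_injective _ _), Prod.orderOf, ho, ho']

/-- The split torus. -/
theorem ord_plus {d : ℕ} (hd : 1 ≤ d) : Ord F d 1 (Fintype.card F ^ d - 1) := by
  classical
  obtain ⟨p, hp⟩ := CharP.exists F
  haveI : Fact p.Prime := ⟨CharP.char_is_prime F p⟩
  haveI : NeZero d := ⟨by omega⟩
  let K := FiniteField.Extension F p d
  haveI : Finite K := Module.finite_of_finite F
  have hK : Nat.card K = Fintype.card F ^ d := by
    rw [FiniteField.natCard_extension, Nat.card_eq_fintype_card]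
  have hfin : Module.finrank F K = d := FiniteField.finrank_extension F p d
  let W := K × K
  let B : LinearMap.BilinMap F W F := LinearMap.mk₂ F (fun x y : W => Algebra.trace F K (x.1 * y.2))
    (fun a b c => by rw [Prod.fst_add, add_mul, map_add])
    (fun c a b => by rw [Prod.smul_fst, smul_mul_assoc, map_smul])
    (fun a b c => by rw [Prod.snd_add, mul_add, map_add])
    (fun c a b => by rw [Prod.smul_snd, mul_smul_comm, map_smul])
  let R : QuadraticForm F W := B.toQuadraticMap
  have hR : ∀ x : W, R x = Algebra.trace F K (x.1 * x.2) := fun x => rfl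
  have hpol : ∀ x y : W, polar ⇑R x y = Algebra.trace F K (x.1 * y.2 + y.1 * x.2) := fun x y => by
    simp only [polar, hR]
    rw [← map_sub, ← map_sub]
    refine congrArg (Algebra.trace F K) ?_
    show (x.1 + y.1) * (x.2 + y.2) - x.1 * x.2 - y.1 * y.2 = _
    ring
  have hnd : (polarBilin R).Nondegenerate := StdForms.nondegenerate_of_left _ fun u hu => by
    refine Prod.ext ((traceForm_nondegenerate F K).1 _ fun y => ?_) ((traceForm_nondegenerate F K).1 _ fun y => ?_)
    · have := hu (0, y)
      rw [hpol] at this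
      show Algebra.trace F K (u.1 * y) = 0
      simpa using this
    · have := hu (y, 0)
      rw [hpol] at this
      show Algebra.trace F K (u.2 * y) = 0
      rw [mul_comm]
      simpa using this
  let h : Kˣ →* (W ≃ₗ[F] W) := MonoidHom.mk'
    (fun a =>
      { toFun := fun x => ((a : K) * x.1, ((a⁻¹ : Kˣ) : K) * x.2)
        invFun := fun x => (((a⁻¹ : Kˣ) : K) * x.1, (a : K) * x.2)
        left_inv := fun x => Prod.ext (by simp [← mul_assoc]) (by simp [← mul_assoc])
        right_inv := fun x => Prod.ext (by simp [← mul_assoc]) (by simp [← mul_assoc])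
        map_add' := fun x y => Prod.ext (mul_add _ _ _) (mul_add _ _ _)
        map_smul' := fun c x => Prod.ext (mul_smul_comm c _ _) (mul_smul_comm c _ _) })
    (fun a b => LinearEquiv.ext fun x => Prod.ext (by simp [mul_assoc]) (by simp [mul_assoc, mul_comm, mul_left_comm]))
  have hinj : Function.Injective h := fun a b e => Units.ext ((mul_one _).symm.trans
    ((congrArg Prod.fst (LinearEquiv.congr_fun e ((1 : K), (0 : K)))).trans (mul_one _)))
  obtain ⟨α, hα⟩ := isCyclic_iff_exists_orderOf_eq_natCard.1 (inferInstance : IsCyclic Kˣ)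
  refine Ord.mk' R (h α) hnd (by rw [Module.finrank_prod, hfin, two_mul]) ?_
    (fun v => ?_) (by rw [orderOf_injective h hinj, hα, Nat.card_units, hK])
  · rw [OrthPrime.qsgn_eq_one_iff]
    refine ⟨LinearMap.range (LinearMap.inl F K K), ?_, ?_⟩
    · rw [LinearMap.finrank_range_of_inj LinearMap.inl_injective, Module.finrank_prod]; omega
    · rintro _ ⟨a, rfl⟩
      show Algebra.trace F K (a * (0 : K)) = 0
      rw [mul_zero, map_zero]
  · rw [hR, hR]
    show Algebra.trace F K ((α : K) * v.1 * (((α⁻¹ : Kˣ) : K) * v.2)) = _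
    rw [mul_mul_mul_comm, Units.mul_inv, one_mul]

/-- The non-split torus. -/
theorem ord_minus {d : ℕ} (hd : 1 ≤ d) (hq : 2 ≤ d ∨ Fintype.card F ≠ 3) :
    Ord F d (-1) (Fintype.card F ^ d + 1) := by
  classical
  obtain ⟨p, hp⟩ := CharP.exists F
  haveI : Fact p.Prime := ⟨CharP.char_is_prime F p⟩
  haveI : NeZero (2 * d) := ⟨by omega⟩
  let L := FiniteField.Extension F p (2 * d)
  haveI : Finite L := Module.finite_of_finite F
  set q := Fintype.card F with hqdef
  have hq2 : 2 ≤ q := Fintype.one_lt_card
  set Q := q ^ d with hQdef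
  have hQ2 : 2 ≤ Q := by
    calc 2 ≤ q := hq2
      _ = q ^ 1 := (pow_one q).symm
      _ ≤ Q := Nat.pow_le_pow_right (by omega) hd
  have hL : Nat.card L = Q * Q := by
    rw [FiniteField.natCard_extension, Nat.card_eq_fintype_card, hQdef, ← pow_add, two_mul]
  have hfin : Module.finrank F L = 2 * d := FiniteField.finrank_extension F p (2 * d)
  let σ : L ≃ₐ[F] L := (FiniteField.frobeniusAlgEquivOfAlgebraic F L) ^ d
  have hσ : ∀ x : L, σ x = x ^ Q := fun x => by
    show ((FiniteField.frobeniusAlgEquivOfAlgebraic F L) ^ d) x = _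
    rw [AlgEquiv.coe_pow, FiniteField.coe_frobeniusAlgEquivOfAlgebraic_iterate]
  have hσσ : ∀ x : L, σ (σ x) = x := fun x => by
    letI : Fintype L := Fintype.ofFinite L
    rw [hσ, hσ, ← pow_mul, ← hL, Nat.card_eq_fintype_card, FiniteField.pow_card]
  obtain ⟨w, hw⟩ := isCyclic_iff_exists_orderOf_eq_natCard.1 (inferInstance : IsCyclic Lˣ)
  rw [Nat.card_units, hL] at hw
  have hfac : Q * Q - 1 = (Q + 1) * (Q - 1) := by rw [← Nat.sq_sub_sq, one_pow, pow_two]
  obtain ⟨θ, hθ⟩ : ∃ θ : L, θ + σ θ = 1 := by
    obtain ⟨t, ht⟩ : ∃ t : L, t + σ t ≠ 0 := by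
      by_contra hcon
      push Not at hcon
      have h2 : (2 : L) = 0 := by simpa [one_add_one_eq_two] using hcon 1
      have h3 := hcon (w : L)
      rw [hσ, show (w : L) + (w : L) ^ Q = (w : L) ^ Q - (w : L) by linear_combination (w : L) * h2,
        sub_eq_zero] at h3
      have h4 : w ^ (Q - 1) = 1 := by
        apply Units.ext
        rw [Units.val_pow_eq_pow_val, pow_sub₀ _ w.ne_zero (by omega), h3, pow_one, Units.val_one,
          mul_inv_cancel₀ w.ne_zero]
      have h5 := Nat.le_of_dvd (by omega) (orderOf_dvd_of_pow_eq_one h4)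
      rw [hw, hfac] at h5
      nlinarith [show 0 < Q - 1 by omega]
    refine ⟨t / (t + σ t), ?_⟩
    rw [map_div₀, map_add, hσσ, add_comm (σ t) t, ← add_div, div_self ht]
  set α := w ^ (Q - 1) with hαdef
  have hα : orderOf α = Q + 1 := by
    rw [hαdef, orderOf_pow, hw, hfac, Nat.gcd_mul_left_left, Nat.mul_div_cancel _ (by omega)]
  have hαN : (α : L) * σ (α : L) = 1 := by
    rw [hσ, mul_comm, ← pow_succ, ← Units.val_pow_eq_pow_val, ← hα, pow_orderOf_eq_one, Units.val_one]
  let B : LinearMap.BilinMap F L F :=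
    LinearMap.mk₂ F (fun x y : L => Algebra.trace F L (θ * x * σ y))
      (fun a b c => by simp [mul_add, add_mul]) (fun c a b => by simp)
      (fun a b c => by simp [mul_add]) (fun c a b => by simp)
  let R : QuadraticForm F L := B.toQuadraticMap
  have hR : ∀ x : L, R x = Algebra.trace F L (θ * x * σ x) := fun x => rfl
  have hpol : ∀ x y : L, polar ⇑R x y = Algebra.trace F L (x * σ y) := fun x y => by
    have h1 : Algebra.trace F L (θ * y * σ x) = Algebra.trace F L (σ θ * x * σ y) := by
      refine (Algebra.trace_eq_of_algEquiv σ (θ * y * σ x)).symm.trans (congrArg (Algebra.trace F L) ?_)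
      rw [map_mul σ, map_mul σ, hσσ]
      ring
    have h2 : polar ⇑R x y = Algebra.trace F L (θ * x * σ y) + Algebra.trace F L (θ * y * σ x) := by
      simp only [polar, hR, map_add σ]
      rw [← map_sub, ← map_sub, ← map_add (Algebra.trace F L)]
      exact congrArg (Algebra.trace F L) (by ring)
    rw [h2, h1, ← map_add]
    exact congrArg _ (by linear_combination (x * σ y) * hθ)
  have hnd : (polarBilin R).Nondegenerate := StdForms.nondegenerate_of_left _ fun u hu => by
    refine (traceForm_nondegenerate F L).1 u fun y => ?_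
    have := hu (σ y)
    rw [hpol, hσσ] at this
    show Algebra.trace F L (u * y) = 0
    exact this
  let h : Lˣ →* (L ≃ₗ[F] L) := MonoidHom.mk'
    (fun a =>
      { toFun := fun x => (a : L) * x
        invFun := fun x => ((a⁻¹ : Lˣ) : L) * x
        left_inv := fun x => by simp [← mul_assoc]
        right_inv := fun x => by simp [← mul_assoc]
        map_add' := fun x y => mul_add _ _ _
        map_smul' := fun c x => mul_smul_comm c _ _ })
    (fun a b => LinearEquiv.ext fun x => by simp [mul_assoc])
  have hinj : Function.Injective h := fun a b e => Units.ext ((mul_one _).symm.trans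
    ((LinearEquiv.congr_fun e (1 : L)).trans (mul_one _)))
  have hiso : ∀ v : L, R (h α v) = R v := fun v => by
    rw [hR, hR]
    show Algebra.trace F L (θ * ((α : L) * v) * σ ((α : L) * v)) = _
    rw [map_mul σ]
    exact congrArg (Algebra.trace F L) (by linear_combination (θ * v * σ v) * hαN)
  refine Ord.mk' R (h α) hnd hfin ?_ hiso (by rw [orderOf_injective h hinj, hα])
  -- the zero set is a union of cosets of `⟨α⟩`
  rcases OrthPrime.qsgn_cases R with hs | hs
  · exfalso
    have hC : Nat.card (Subgroup.zpowers α) = Q + 1 := by rw [Nat.card_zpowers, hα]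
    let S : Set Lˣ := {u | R (u : L) = 0}
    let T : Set (Lˣ ⧸ Subgroup.zpowers α) := {c | ∃ u : Lˣ, R (u : L) = 0 ∧ QuotientGroup.mk u = c}
    have hST : S = QuotientGroup.mk ⁻¹' T := by
      ext u
      refine ⟨fun hu => ⟨u, hu, rfl⟩, fun ⟨v, hv, hvu⟩ => ?_⟩
      rw [QuotientGroup.eq] at hvu
      haveI : Finite Lˣ := inferInstance
      obtain ⟨i, hi⟩ := (mem_powers_iff_mem_zpowers).2 hvu
      show R (u : L) = 0
      have hu : u = v * α ^ i := by rw [show α ^ i = v⁻¹ * u from hi, mul_inv_cancel_left]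
      have hit : ∀ j : ℕ, R ((v * α ^ j : Lˣ) : L) = 0 := by
        intro j
        induction j with
        | zero => simpa using hv
        | succ j ih =>
          rw [pow_succ', mul_left_comm, Units.val_mul]
          exact (hiso _).trans ih
      rw [hu]; exact hit i
    have hS : Nat.card S = (Q + 1) * Nat.card T := by
      rw [hST, Nat.card_congr (QuotientGroup.preimageMkEquivSubgroupProdSet _ T), Nat.card_prod, hC]
    have hZ : Nat.card {v : L // R v = 0} = Nat.card S + 1 := by
      have e : Option S ≃ {v : L // R v = 0} :=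
        Equiv.ofBijective (fun o => o.elim ⟨0, map_zero R⟩ fun u => ⟨((u : Lˣ) : L), u.2⟩)
          ⟨by
            rintro (_ | u) (_ | u') e
            · rfl
            · exact absurd (congrArg Subtype.val e).symm (u' : Lˣ).ne_zero
            · exact absurd (congrArg Subtype.val e) (u : Lˣ).ne_zero
            · exact congrArg some (Subtype.ext (Units.ext (congrArg Subtype.val e))),
           fun ⟨v, hv⟩ => by
            rcases eq_or_ne v 0 with rfl | hv0
            · exact ⟨none, rfl⟩
            · exact ⟨some ⟨Units.mk0 v hv0, hv⟩, rfl⟩⟩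
      rw [← Nat.card_congr e, Finite.card_option]
    have hval := OrthPrime.card_value_zero hfin hnd
    rw [hs, hZ, hS] at hval
    push_cast at hval
    have hQi : ((q : ℤ)) ^ d = (Q : ℤ) := by rw [hQdef]; push_cast; rfl
    rw [show Nat.card F = q from Nat.card_eq_fintype_card, pow_mul', hQi] at hval
    -- `Q + 1 ∣ 2 (q - 1)`
    have hdvd : ((Q : ℤ) + 1) ∣ 2 * ((q : ℤ) - 1) :=
      ⟨(Q : ℤ) - 1 + ((q : ℤ) - 1) - q * (Nat.card T : ℤ), by linear_combination hval⟩
    have hle := Int.le_of_dvd (by omega) hdvd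
    rcases hq with h2 | h3
    · have : q * q ≤ Q := by
        rw [hQdef, ← pow_two]; exact Nat.pow_le_pow_right (by omega) h2
      have h22 : 2 * q ≤ q * q := Nat.mul_le_mul_right q hq2
      omega
    · obtain ⟨c, hc⟩ := hdvd
      rcases Nat.lt_or_ge d 2 with hd1 | hd2
      · obtain rfl : d = 1 := by omega
        have hQq : (Q : ℤ) = q := by rw [hQdef, pow_one]
        rw [hQq] at hc
        have hc1 : 1 ≤ c := by nlinarith
        have hc2 : c ≤ 1 := by nlinarith
        obtain rfl : c = 1 := le_antisymm hc2 hc1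
        omega
      · have : q * q ≤ Q := by
          rw [hQdef, ← pow_two]; exact Nat.pow_le_pow_right (by omega) hd2
        have h22 : 2 * q ≤ q * q := Nat.mul_le_mul_right q hq2
        omega
  · exact hs

end Cfsg.Agent.Lib.SpectrumEight
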