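import Mathlib
import Cfsg.Agent.Lib.SpectrumEight.Torus

/-!
Orthogonal unipotent elements of orders 2, 4, 8 in characteristic two, of both types, by successive extensions
by a hyperbolic plane.
-/

set_option autoImplicit false
set_option linter.unusedSectionVars false

namespace Cfsg.Agent.Lib.SpectrumEight

open QuadraticMap

universe u

variable {F : Type u} [Field F] [Fintype F]
variable {W : Type*} [AddCommGroup W] [Module F W]

/-- `u - 1` as a function. -/
def dlt (e : W ≃ₗ[F] W) (v : W) : W := e v - v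

theorem dlt_zero (e : W ≃ₗ[F] W) : dlt e 0 = 0 := by simp [dlt]

theorem dlt_iterate_zero (e : W ≃ₗ[F] W) (n : ℕ) : (dlt e)^[n] 0 = 0 :=
  Function.iterate_fixed (dlt_zero e) n

theorem dlt_sub (e : W ≃ₗ[F] W) (x y : W) : dlt e (x - y) = dlt e x - dlt e y := by
  simp only [dlt, map_sub]; abel

theorem dlt_two [CharP F 2] (e : W ≃ₗ[F] W) : ∀ v, dlt e (dlt e v) = dlt (e ^ 2) v := by
  intro v
  have h : e v + e v = 0 := by rw [← two_smul F, CharTwo.two_eq_zero, zero_smul]
  simp only [dlt, map_sub, pow_two, LinearEquiv.mul_apply]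
  calc e (e v) - e v - (e v - v) = e (e v) + v - (e v + e v) := by abel
    _ = e (e v) + v := by rw [h, sub_zero]
    _ = e (e v) - v := by
      rw [eq_sub_iff_add_eq, add_assoc, ← two_smul F v, CharTwo.two_eq_zero, zero_smul, add_zero]

theorem dlt_pow_two [CharP F 2] (e : W ≃ₗ[F] W) (n : ℕ) :
    ∀ v, (dlt e)^[2 ^ n] v = dlt (e ^ 2 ^ n) v := by
  induction n with
  | zero => intro v; simp
  | succ n ih =>
    intro v
    rw [pow_succ, mul_two, Function.iterate_add_apply, ih, ih, dlt_two, ← pow_mul, ← pow_succ, ← mul_two,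
      ← pow_succ]

/-- An element `u` with `(u - 1) ^ (2 ^ n) = 0` and `(u - 1) ^ (2 ^ (n - 1)) ≠ 0` has order `2 ^ n`. -/
theorem orderOf_of_dlt [CharP F 2] (e : W ≃ₗ[F] W) (n : ℕ) (h : ∀ v, (dlt e)^[2 ^ (n + 1)] v = 0)
    {v : W} (hv : (dlt e)^[2 ^ n] v ≠ 0) : orderOf e = 2 ^ (n + 1) := by
  refine orderOf_eq_prime_pow ?_ ?_
  · intro h1
    rw [dlt_pow_two, h1] at hv
    simp [dlt] at hv
  · refine LinearEquiv.ext fun w => ?_
    have := h w
    rw [dlt_pow_two, dlt, sub_eq_zero] at this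
    exact this

/-- The hyperbolic plane. -/
def hypPlane (F : Type u) [Field F] : QuadraticForm F (F × F) :=
  LinearMap.BilinMap.toQuadraticMap (LinearMap.mk₂ F (fun x y : F × F => x.1 * y.2) (fun a b c => add_mul _ _ _) (fun c a b => mul_assoc c _ _)
    (fun a b c => mul_add _ _ _) (fun c a b => mul_left_comm _ c _))

theorem hypPlane_apply (x : F × F) : hypPlane F x = x.1 * x.2 := rfl

theorem hypPlane_nd : (polarBilin (hypPlane F)).Nondegenerate :=
  StdForms.nondegenerate_of_left _ fun u hu => by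
    have h1 := hu (0, 1)
    have h2 := hu (1, 0)
    simp [polar, hypPlane_apply] at h1 h2
    ring_nf at h1 h2
    exact Prod.ext h1 h2

theorem qsgn_hypPlane : OrthPrime.qsgn (hypPlane F) = 1 := by
  rw [OrthPrime.qsgn_eq_one_iff]
  refine ⟨LinearMap.range (LinearMap.inl F F F), ?_, ?_⟩
  · rw [LinearMap.finrank_range_of_inj LinearMap.inl_injective, Module.finrank_prod, Module.finrank_self]
  · rintro _ ⟨a, rfl⟩
    show a * (0 : F) = 0
    rw [mul_zero]

variable [FiniteDimensional F W]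

/-- The extension of an isometry by a hyperbolic plane along `a`. -/
noncomputable def ext (R : QuadraticForm F W) (x : W ≃ₗ[F] W) (a : W) : (W × F × F) ≃ₗ[F] (W × F × F) :=
  LinearEquiv.ofInjectiveEndo
    { toFun := fun z => (x z.1 + z.2.2 • a, z.2.1 - polar ⇑R (x z.1) a - z.2.2 * R a, z.2.2)
      map_add' := fun z w => Prod.ext (by simp [add_smul]; abel)
        (Prod.ext (by simp [QuadraticMap.polar_add_left, add_mul]; ring) rfl)
      map_smul' := fun c z => Prod.ext (by simp [mul_smul])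
        (Prod.ext (by simp [QuadraticMap.polar_smul_left]; ring) rfl) }
    (fun z w h => by
      obtain ⟨z1, z2, z3⟩ := z
      obtain ⟨w1, w2, w3⟩ := w
      obtain ⟨h1, h2, h3⟩ : x z1 + z3 • a = x w1 + w3 • a ∧
          z2 - polar ⇑R (x z1) a - z3 * R a = w2 - polar ⇑R (x w1) a - w3 * R a ∧ z3 = w3 :=
        ⟨congrArg Prod.fst h, congrArg (fun t => t.2.1) h, congrArg (fun t => t.2.2) h⟩
      subst h3
      obtain rfl := x.injective (add_right_cancel h1)
      obtain rfl : z2 = w2 := by linear_combination h2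
      rfl)

theorem ext_apply (R : QuadraticForm F W) (x : W ≃ₗ[F] W) (a : W) (w : W) (α β : F) :
    ext R x a (w, α, β) = (x w + β • a, α - polar ⇑R (x w) a - β * R a, β) := rfl

theorem ext_iso (R : QuadraticForm F W) (x : W ≃ₗ[F] W) (a : W) (hx : ∀ v, R (x v) = R v) (z : W × F × F) :
    R.prod (hypPlane F) (ext R x a z) = R.prod (hypPlane F) z := by
  obtain ⟨w, α, β⟩ := z
  rw [ext_apply, QuadraticMap.prod_apply, QuadraticMap.prod_apply]
  simp only [hypPlane_apply]
  rw [QuadraticMap.map_add (⇑R), hx, QuadraticMap.map_smul, QuadraticMap.polar_smul_right, smul_eq_mul, smul_eq_mul]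
  ring

theorem dlt_ext (R : QuadraticForm F W) (x : W ≃ₗ[F] W) (a : W) (w : W) (α β : F) :
    dlt (ext R x a) (w, α, β) = (dlt x w + β • a, -polar ⇑R (x w) a - β * R a, 0) := by
  rw [dlt, ext_apply]
  refine Prod.ext ?_ (Prod.ext ?_ ?_)
  · show x w + β • a - w = dlt x w + β • a
    rw [dlt]; abel
  · show α - polar ⇑R (x w) a - β * R a - α = _
    ring
  · show β - β = 0
    rw [sub_self]

/-- Iterates beyond the first step. -/
theorem dlt_ext_iterate (R : QuadraticForm F W) (x : W ≃ₗ[F] W) (a : W) (z : W) (γ : F) :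
    ∀ n : ℕ, ∃ δ : F, (dlt (ext R x a))^[n] (z, γ, 0) = ((dlt x)^[n] z, δ, 0) := by
  intro n
  induction n with
  | zero => exact ⟨γ, rfl⟩
  | succ n ih =>
    obtain ⟨δ, hδ⟩ := ih
    refine ⟨-polar ⇑R (x ((dlt x)^[n] z)) a - 0 * R a, ?_⟩
    rw [Function.iterate_succ_apply', hδ, dlt_ext, zero_smul, add_zero, Function.iterate_succ_apply']

/-- The extension kills one more step than `x` plus one. -/
theorem dlt_ext_nil (R : QuadraticForm F W) (x : W ≃ₗ[F] W) (a : W) (N : ℕ) (h : ∀ v, (dlt x)^[N] v = 0)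
    (z : W × F × F) : (dlt (ext R x a))^[N + 2] z = 0 := by
  obtain ⟨w, α, β⟩ := z
  rw [Function.iterate_succ_apply (dlt _) (N + 1), dlt_ext, Function.iterate_succ_apply']
  obtain ⟨δ, hδ⟩ := dlt_ext_iterate R x a (dlt x w + β • a) (-polar ⇑R (x w) a - β * R a) N
  rw [hδ, h, dlt_ext, dlt_zero]
  simp

variable (F) in
/-- A unipotent isometry of a `2 k`-dimensional space of sign `s` with `(u - 1) ^ N = 0` and
`(u - 1) ^ M v ≠ 0`, together with the vector `v`. -/
def Unip (k : ℕ) (s : ℤ) (M N : ℕ) : Prop :=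
  ∃ (R : QuadraticForm F (Fin (2 * k) → F)) (e : (Fin (2 * k) → F) ≃ₗ[F] (Fin (2 * k) → F)) (v : Fin (2 * k) → F),
    (polarBilin R).Nondegenerate ∧ OrthPrime.qsgn R = s ∧ (∀ w, R (e w) = R w) ∧
      (∀ w, (dlt e)^[N] w = 0) ∧ (dlt e)^[M] v ≠ 0

theorem Unip.mk' {V : Type*} [AddCommGroup V] [Module F V] [FiniteDimensional F V] (R : QuadraticForm F V)
    (e : V ≃ₗ[F] V) (v : V) {k : ℕ} {s : ℤ} {M N : ℕ} (hR : (polarBilin R).Nondegenerate)
    (hd : Module.finrank F V = 2 * k) (hs : OrthPrime.qsgn R = s) (he : ∀ w, R (e w) = R w)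
    (hN : ∀ w, (dlt e)^[N] w = 0) (hM : (dlt e)^[M] v ≠ 0) : Unip F k s M N := by
  let φ : V ≃ₗ[F] (Fin (2 * k) → F) := (Module.finBasisOfFinrankEq F V hd).equivFun
  have h : ∀ v, R.comp φ.symm.toLinearMap (φ v) = R v := fun v => by simp
  have hit : ∀ (n : ℕ) (w : V), (dlt (conjHom φ e))^[n] (φ w) = φ ((dlt e)^[n] w) := by
    intro n
    induction n with
    | zero => intro w; rfl
    | succ n ih =>
      intro w
      rw [Function.iterate_succ_apply', ih, Function.iterate_succ_apply']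
      simp [dlt, conjHom]
  refine ⟨R.comp φ.symm.toLinearMap, conjHom φ e, φ v, FormConj.nondegenerate_congr φ h hR,
    by rw [OrthPrime.qsgn_congr φ h, hs], fun w => by simp [conjHom, he], fun w => ?_, ?_⟩
  · obtain ⟨w, rfl⟩ := φ.surjective w
    rw [hit, hN, map_zero]
  · rw [hit]
    exact fun h0 => hM (φ.injective (by rw [h0, map_zero]))

theorem ord_of_unip [CharP F 2] {k n : ℕ} {s : ℤ} (h : Unip F k s (2 ^ n) (2 ^ (n + 1))) :
    Ord F k s (2 ^ (n + 1)) := by
  obtain ⟨R, e, v, hR, hs, he, hN, hM⟩ := h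
  exact ⟨R, e, hR, hs, he, orderOf_of_dlt e n hN hM⟩

variable [CharP F 2]

/-- A plane of each sign with a reflection `x`, `x c = c`, `(x - 1) a = t • c`. -/
theorem exists_reflection_plane {s : ℤ} (hs : s = 1 ∨ s = -1) :
    ∃ (R : QuadraticForm F (Fin 2 → F)) (x : (Fin 2 → F) ≃ₗ[F] (Fin 2 → F)) (a : Fin 2 → F),
      (polarBilin R).Nondegenerate ∧ OrthPrime.qsgn R = s ∧ (∀ v, R (x v) = R v) ∧
      (∀ v, dlt x (dlt x v) = 0) ∧ dlt x a ≠ 0 ∧ polar ⇑R (x (dlt x a)) a ≠ 0 := by
  have hO : Ord F 1 s 1 := by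
    rcases hs with rfl | rfl
    · exact (ord_plus le_rfl).of_dvd (one_dvd _)
    · refine (ord_minus le_rfl (Or.inr fun h => ?_)).of_dvd (one_dvd _)
      obtain ⟨N, -, hN⟩ := FiniteField.card F 2
      have h2 : 2 ∣ Fintype.card F := hN ▸ dvd_pow_self 2 N.ne_zero
      rw [h] at h2; norm_num at h2
  obtain ⟨R, -, hR, hsR, -, -⟩ := hO
  obtain ⟨c, hc⟩ : ∃ c, R c ≠ 0 := by
    by_contra hcon
    push Not at hcon
    have h1 : (Pi.single 0 1 : Fin 2 → F) = 0 := hR.1 _ fun y => by simp [polar, hcon]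
    simpa using congrFun h1 0
  obtain ⟨a, ha⟩ : ∃ a, polar ⇑R c a ≠ 0 := by
    by_contra hcon
    push Not at hcon
    exact hc (by rw [hR.1 c hcon]; exact map_zero R)
  have hcc : polar ⇑R c c = 0 := by rw [polar_self, nsmul_eq_mul, Nat.cast_ofNat, CharTwo.two_eq_zero, zero_mul]
  let f : Module.End F (Fin 2 → F) :=
    { toFun := fun v => v + ((R c)⁻¹ * polar ⇑R c v) • c
      map_add' := fun v w => by simp [QuadraticMap.polar_add_right, mul_add, add_smul]; abel
      map_smul' := fun t v => by simp [QuadraticMap.polar_smul_right, smul_smul, mul_left_comm] }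
  have hff : ∀ v, f (f v) = v := fun v => by
    show v + _ + ((R c)⁻¹ * polar ⇑R c (v + _)) • c = v
    rw [QuadraticMap.polar_add_right, QuadraticMap.polar_smul_right, hcc, smul_zero, add_zero, add_assoc]
    have hz : ∀ w : Fin 2 → F, w + w = 0 := fun w => funext fun i => CharTwo.add_self_eq_zero (w i)
    rw [hz, add_zero]
  let x : (Fin 2 → F) ≃ₗ[F] (Fin 2 → F) := LinearEquiv.ofLinear f f (LinearMap.ext hff) (LinearMap.ext hff)
  have hdx : ∀ v, dlt x v = ((R c)⁻¹ * polar ⇑R c v) • c := fun v => by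
    show v + ((R c)⁻¹ * polar ⇑R c v) • c - v = _
    rw [add_sub_cancel_left]
  refine ⟨R, x, a, hR, hsR, fun v => ?_, fun v => ?_, ?_, ?_⟩
  · show R (v + ((R c)⁻¹ * polar ⇑R c v) • c) = R v
    rw [QuadraticMap.map_add (⇑R), QuadraticMap.map_smul, QuadraticMap.polar_smul_right, polar_comm _ v c,
      smul_eq_mul, smul_eq_mul, add_assoc, add_eq_left]
    field_simp
    linear_combination (polar ⇑R c v) ^ 2 * (CharTwo.two_eq_zero (R := F))
  · rw [hdx, hdx, QuadraticMap.polar_smul_right, hcc, smul_zero, mul_zero, zero_smul]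
  · rw [hdx]
    exact smul_ne_zero (mul_ne_zero (inv_ne_zero hc) ha) fun h => hc (by rw [h]; exact map_zero R)
  · rw [hdx, map_smul, show x c = c from by
      show c + ((R c)⁻¹ * polar ⇑R c c) • c = c
      rw [hcc, mul_zero, zero_smul, add_zero], QuadraticMap.polar_smul_left, smul_eq_mul]
    exact mul_ne_zero (mul_ne_zero (inv_ne_zero hc) ha) ha

/-- Order two in either type of plane. -/
theorem unip_one {s : ℤ} (hs : s = 1 ∨ s = -1) : Unip F 1 s 1 2 := by
  obtain ⟨R, x, a, hR, hsR, hx, h2, ha, -⟩ := exists_reflection_plane (F := F) hs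
  exact ⟨R, x, a, hR, hsR, hx, fun w => h2 w, ha⟩

/-- Order four in either type of four-space. -/
theorem unip_two {s : ℤ} (hs : s = 1 ∨ s = -1) : Unip F 2 s 3 4 := by
  obtain ⟨R, x, a, hR, hsR, hx, h2, ha, hμ⟩ := exists_reflection_plane (F := F) hs
  have hd : Module.finrank F ((Fin 2 → F) × F × F) = 2 * 2 := by simp
  refine Unip.mk' (R.prod (hypPlane F)) (ext R x a) ((0 : Fin 2 → F), (0 : F), (1 : F))
    (FormConj.prod_nondegenerate hR hypPlane_nd) hd ?_ (ext_iso R x a hx)
    (dlt_ext_nil R x a 2 fun v => h2 v) ?_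
  · rw [OrthPrime.qsgn_prod (k := 1) (l := 1) (by simp) (by simp) hR hypPlane_nd, hsR, qsgn_hypPlane, mul_one]
  · show dlt (ext R x a) (dlt (ext R x a) (dlt (ext R x a) (0, 0, 1))) ≠ 0
    simp only [dlt_ext, dlt_zero, zero_add, one_smul, zero_smul, add_zero, h2]
    intro h
    have := congrArg (fun t => t.2.1) h
    simp only [zero_mul, sub_zero] at this
    exact hμ (neg_eq_zero.1 this)

/-- Order eight in either type of six-space. -/
theorem unip_three {s : ℤ} (hs : s = 1 ∨ s = -1) : Unip F 3 s 4 8 := by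
  obtain ⟨R, x, a, hR, hsR, hx, h4, ha⟩ := unip_two (F := F) hs
  have hd : Module.finrank F ((Fin (2 * 2) → F) × F × F) = 2 * 3 := by simp
  refine Unip.mk' (R.prod (hypPlane F)) (ext R x a) ((0 : Fin (2 * 2) → F), (0 : F), (1 : F))
    (FormConj.prod_nondegenerate hR hypPlane_nd) hd ?_ (ext_iso R x a hx)
    (fun w => ?_) ?_
  · rw [OrthPrime.qsgn_prod (k := 2) (l := 1) (by simp) (by simp) hR hypPlane_nd, hsR, qsgn_hypPlane, mul_one]
  · rw [show 8 = 2 + (4 + 2) from rfl, Function.iterate_add_apply, dlt_ext_nil R x a 4 h4, dlt_iterate_zero]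
  · rw [show 4 = 3 + 1 from rfl, Function.iterate_succ_apply, dlt_ext, dlt_zero, zero_add, one_smul]
    obtain ⟨δ, hδ⟩ := dlt_ext_iterate R x a a (-polar ⇑R (x 0) a - 1 * R a) 3
    rw [hδ]
    exact fun h => ha (congrArg Prod.fst h)

end Cfsg.Agent.Lib.SpectrumEight
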