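import Mathlib
import Cfsg.Prelude.Def_Classical
import Cfsg.Agent.Lib.SpectrumEight.Bound
import Cfsg.Agent.Lib.SpectrumEight.Unipotent
import Cfsg.Agent.Lib.CharTwoQuad.Witness
import Cfsg.Agent.Lib.PSpAut.Preserve
import Cfsg.Agent.Lib.ElementOrders.Basic

/-!
`GO⁻₈(q)` and `PSp₈(q)`, `q` even, have the same element orders.
-/

set_option autoImplicit false
set_option linter.unusedSectionVars false

namespace Cfsg.Agent.Lib.SpectrumEight

open QuadraticMap Matrix

universe u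

variable {F : Type u} [Field F] [Fintype F] [CharP F 2]

theorem even_card : Even (Fintype.card F) := by
  obtain ⟨N, -, hN⟩ := FiniteField.card F 2
  rw [hN]; exact (Nat.even_pow).2 ⟨even_two, N.ne_zero⟩

theorem coprime_succ_pred {q : ℕ} (hq : Even q) (hq0 : q ≠ 0) {i : ℕ} (hi : i ≠ 0) :
    Nat.Coprime (q ^ i + 1) (q ^ i - 1) := by
  have ho : Odd (q ^ i + 1) := ((Nat.even_pow).2 ⟨hq, hi⟩).add_one
  have h1 : 1 ≤ q ^ i := Nat.one_le_iff_ne_zero.2 (pow_ne_zero _ hq0)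
  refine Nat.coprime_of_dvd fun p hp h h' => ?_
  have h2 : p ∣ 2 := by
    have := Nat.dvd_sub h h'
    rwa [show q ^ i + 1 - (q ^ i - 1) = 2 by omega] at this
  obtain rfl := (Nat.prime_dvd_prime_iff_eq hp Nat.prime_two).1 h2
  exact ho.not_two_dvd_nat h

theorem ord_two {s : ℤ} (hs : s = 1 ∨ s = -1) : Ord F 1 s 2 := ord_of_unip (n := 0) (unip_one hs)

theorem ord_four {s : ℤ} (hs : s = 1 ∨ s = -1) : Ord F 2 s 4 := by
  obtain ⟨R, e, v, hR, hs', he, hN, hM⟩ := unip_two (F := F) hs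
  refine ord_of_unip (n := 1) ⟨R, e, v, hR, hs', he, hN, fun h => hM ?_⟩
  rw [show 3 = 1 + 2 from rfl, Function.iterate_add_apply]
  rw [show (2 : ℕ) ^ 1 = 2 from rfl] at h
  rw [h, dlt_iterate_zero]

theorem ord_eight {s : ℤ} (hs : s = 1 ∨ s = -1) : Ord F 3 s 8 := ord_of_unip (n := 2) (unip_three hs)

/-- All twelve orders occur in the orthogonal group of minus type. -/
theorem ord_table (j : Fin 12) : Ord F 4 (-1) (ordTab (Fintype.card F) j) := by
  set q := Fintype.card F with hqdef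
  have hq : Even q := even_card
  have hq0 : q ≠ 0 := Fintype.card_ne_zero
  have h3 : q ≠ 3 := fun h => by rw [h] at hq; exact absurd hq (by decide)
  have hP : ∀ d, 1 ≤ d → Ord F d 1 (q ^ d - 1) := fun d hd => ord_plus hd
  have hM : ∀ d, 1 ≤ d → Ord F d (-1) (q ^ d + 1) := fun d hd => ord_minus hd (Or.inr h3)
  have hP1 : Ord F 1 1 (q - 1) := by simpa using hP 1 le_rfl
  have hM1 : Ord F 1 (-1) (q + 1) := by simpa using hM 1 le_rfl
  have hodd := fun i => even_mTab hq hq0 i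
  have hc2 := coprime_succ_pred hq hq0 (i := 2) (by norm_num)
  have hc3 := coprime_succ_pred hq hq0 (i := 3) (by norm_num)
  have hd2a : q + 1 ∣ q ^ 2 - 1 := ⟨q - 1, by simpa using Nat.sq_sub_sq q 1⟩
  have hd2b : q - 1 ∣ q ^ 2 - 1 := ⟨q + 1, by rw [mul_comm]; simpa using Nat.sq_sub_sq q 1⟩
  have hd3a : q + 1 ∣ q ^ 3 + 1 := by
    simpa using Odd.nat_add_dvd_pow_add_pow q 1 (n := 3) (by decide)
  have hd3b : q - 1 ∣ q ^ 3 - 1 := by simpa using Nat.sub_dvd_pow_sub_pow q 1 3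
  have key : ∀ {k l : ℕ} {s t : ℤ} {n m M : ℕ}, Ord F k s n → Ord F l t m → k + l = 4 → s * t = -1 →
      n.Coprime m → M = n * m → Ord F 4 (-1) M := by
    intro k l s t n m M h h' h4 hst hc hM
    have := h.sum h'
    rwa [h4, hst, hc.lcm_eq_mul, ← hM] at this
  have hcop : ∀ i, Nat.Coprime (2 ^ eTab i) (mTab q i) := fun i =>
    Nat.Coprime.pow_left _ ((Nat.coprime_two_left).2 (hodd i))
  fin_cases j
  · simpa [ordTab, eTab, mTab] using hM 4 (by norm_num)
  · refine key (hM 2 (by norm_num)) (hP 2 (by norm_num)) rfl rfl hc2 ?_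
    simp [ordTab, eTab, mTab]
    rw [show q ^ 4 = (q ^ 2) ^ 2 by ring]
    simpa using Nat.sq_sub_sq (q ^ 2) 1
  · exact key (hM 3 (by norm_num)) hP1 rfl rfl (hc3.coprime_dvd_right hd3b) (by simp [ordTab, eTab, mTab])
  · exact key (hP 3 (by norm_num)) hM1 rfl rfl (hc3.symm.coprime_dvd_right hd3a) (by simp [ordTab, eTab, mTab])
  · exact key (ord_two (Or.inl rfl)) (hM 3 (by norm_num)) rfl rfl (hcop 4) (by simp [ordTab, eTab, mTab])
  · exact key (ord_two (Or.inr rfl)) (hP 3 (by norm_num)) rfl rfl (hcop 5) (by simp [ordTab, eTab, mTab])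
  · have h := (hM 2 (by norm_num)).sum hM1
    rw [(hc2.coprime_dvd_right hd2a).lcm_eq_mul] at h
    exact key (ord_two (Or.inr rfl)) h rfl rfl (hcop 6) (by simp [ordTab, eTab, mTab])
  · have h := (hM 2 (by norm_num)).sum hP1
    rw [(hc2.coprime_dvd_right hd2b).lcm_eq_mul] at h
    exact key (ord_two (Or.inl rfl)) h rfl rfl (hcop 7) (by simp [ordTab, eTab, mTab])
  · exact key (ord_four (Or.inl rfl)) (hM 2 (by norm_num)) rfl rfl (hcop 8) (by simp [ordTab, eTab, mTab])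
  · exact key (ord_four (Or.inr rfl)) (hP 2 (by norm_num)) rfl rfl (hcop 9) (by simp [ordTab, eTab, mTab])
  · exact key (ord_eight (Or.inl rfl)) hM1 rfl rfl (hcop 10) (by simp [ordTab, eTab, mTab])
  · exact key (ord_eight (Or.inr rfl)) hP1 rfl rfl (hcop 11) (by simp [ordTab, eTab, mTab])

theorem sp_pow_eq_one (g : Matrix.symplecticGroup (Fin 4) F) :
    ∃ j : Fin 12, orderOf g ∣ ordTab (Fintype.card F) j := by
  obtain ⟨j, P, hP⟩ := charpoly_dvd g.2
  refine ⟨j, orderOf_dvd_of_pow_eq_one (Subtype.ext ?_)⟩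
  have h := congrArg (Polynomial.aeval (g : Matrix (Fin 4 ⊕ Fin 4) (Fin 4 ⊕ Fin 4) F)) hP
  rw [map_sub, map_pow, Polynomial.aeval_X, map_one, map_mul, Matrix.aeval_self_charpoly, zero_mul,
    sub_eq_zero] at h
  simpa using h

variable (a b : F) (hab : ∀ z₁ z₂ : F, z₁ ^ 2 + a * z₁ * z₂ + b * z₂ ^ 2 = 0 → z₁ = 0 ∧ z₂ = 0)
include hab

theorem exists_embedding :
    ∃ φ : Cfsg.isometryGroup F (Cfsg.quadFormMinus 3 F a b) →* Matrix.symplecticGroup (Fin 4) F,
      Function.Injective φ := by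
  classical
  set Q := StdForms.minusQ F 3 a b
  have hQ := StdForms.minusQ_nondegenerate (k := 3) hab
  have hco : (⇑Q : _ → F) = Cfsg.quadFormMinus 3 F a b := StdForms.coe_minusQ _ _ _ _
  obtain ⟨Ψ, hΨ⟩ := CharTwoQuad.exists_std_equiv (CharTwoQuad.qf_of_quadraticForm Q)
    (fun v h => hQ.2 v h) (m := 4) (by simp)
  let c := conjHom Ψ.symm
  let f : Cfsg.isometryGroup F (Cfsg.quadFormMinus 3 F a b) →*
      ((Fin 4 ⊕ Fin 4 → F) ≃ₗ[F] (Fin 4 ⊕ Fin 4 → F)) := c.comp (Forms.isoToEquiv _)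
  have hf : Function.Injective f := (conjHom_injective _).comp (Forms.isoToEquiv_injective _)
  let M : Cfsg.isometryGroup F (Cfsg.quadFormMinus 3 F a b) → Matrix (Fin 4 ⊕ Fin 4) (Fin 4 ⊕ Fin 4) F :=
    fun g => LinearMap.toMatrix' (f g).toLinearMap
  have hM : ∀ g v, M g *ᵥ v = f g v := fun g v => LinearMap.toMatrix'_mulVec (f g).toLinearMap v
  have hmem : ∀ g, M g ∈ Matrix.symplecticGroup (Fin 4) F := by
    intro g
    rw [Forms.mem_symplecticGroup_iff_preserves]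
    intro u v
    have hg : ∀ w, Q (Forms.isoToEquiv _ g w) = Q w := fun w => by
      rw [hco]; exact Forms.isometryGroup_apply g w
    have hp := Forms.polar_preserves_of_quad (T := (Forms.isoToEquiv _ g).toLinearMap) hg (Ψ u) (Ψ v)
    rw [hM, hM, ← Forms.sympBilin_apply, ← Forms.sympBilin_apply, ← hΨ, ← hΨ]
    simp only [f, c, conjHom, MonoidHom.comp_apply, MonoidHom.coe_mk, OneHom.coe_mk, LinearEquiv.trans_apply,
      LinearEquiv.symm_symm, LinearEquiv.apply_symm_apply]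
    exact hp
  refine ⟨MonoidHom.mk' (fun g => ⟨M g, hmem g⟩) fun g h => Subtype.ext ?_, fun g h e => hf ?_⟩
  · show M (g * h) = M g * M h
    refine Matrix.ext_of_mulVec_single fun i => ?_
    rw [← Matrix.mulVec_mulVec, hM, hM, hM, map_mul, LinearEquiv.mul_apply]
  · refine LinearEquiv.ext fun v => ?_
    rw [← hM, ← hM]
    exact congrArg (· *ᵥ v) (congrArg Subtype.val e)

theorem exists_iso_element (j : Fin 12) :
    ∃ g : Cfsg.isometryGroup F (Cfsg.quadFormMinus 3 F a b), orderOf g = ordTab (Fintype.card F) j := by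
  obtain ⟨R, e, hR, hs, he, ho⟩ := ord_table (F := F) j
  set Q := StdForms.minusQ F 3 a b
  have hhyp : FormConj.IsHyp R ↔ FormConj.IsHyp Q := by
    have hn : ¬ FormConj.IsHyp R := fun h => by
      rw [(OrthPrime.qsgn_eq_one_iff R).2 h] at hs; norm_num at hs
    exact iff_of_false hn (FormConj.not_isHyp_minusQ 3 hab)
  obtain ⟨φ, hφ⟩ := FormConj.exists_isometry_of_type (m := 4) (by norm_num) (by simp) (by simp) hR
    (StdForms.minusQ_nondegenerate (k := 3) hab) hhyp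
  have h' : ∀ v, Cfsg.quadFormMinus 3 F a b (conjHom φ e v) = Cfsg.quadFormMinus 3 F a b v := fun v => by
    obtain ⟨w, rfl⟩ := φ.surjective v
    rw [← StdForms.coe_minusQ]
    simp [conjHom, hφ, he, Q]
  refine ⟨Forms.isoMk (conjHom φ e) h', ?_⟩
  rw [← orderOf_injective _ (Forms.isoToEquiv_injective _), Forms.isoToEquiv_isoMk,
    orderOf_injective _ (conjHom_injective φ), ho]

theorem spectrum_eq :
    Set.range (orderOf : Cfsg.PSp 4 F → ℕ) =
      Set.range (orderOf : ↥(Cfsg.isometryGroup F (Cfsg.quadFormMinus 3 F a b)) → ℕ) := by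
  have h2 : (2 : F) = 0 := CharTwo.two_eq_zero
  have hproj : Function.Injective (PSpAut.proj : Matrix.symplecticGroup (Fin 4) F →* Cfsg.PSp 4 F) :=
    PSpAut.proj_injective h2
  ext n
  constructor
  · rintro ⟨x, rfl⟩
    obtain ⟨g, rfl⟩ := QuotientGroup.mk_surjective x
    obtain ⟨j, hj⟩ := sp_pow_eq_one g
    obtain ⟨y, hy⟩ := exists_iso_element a b hab j
    have hn : orderOf (QuotientGroup.mk g : Cfsg.PSp 4 F) ∣ orderOf y :=
      hy ▸ (orderOf_map_dvd (QuotientGroup.mk' _) g).trans hj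
    obtain ⟨z, hz⟩ := ElementOrders.exists_orderOf_eq_of_dvd hn
    exact ⟨z, hz⟩
  · rintro ⟨g, rfl⟩
    obtain ⟨φ, hφ⟩ := exists_embedding a b hab
    exact ⟨PSpAut.proj (φ g), by rw [orderOf_injective _ hproj, orderOf_injective φ hφ]⟩

end Cfsg.Agent.Lib.SpectrumEight
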