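import Mathlib
import Cfsg.Agent.Lib.SpectrumEight.Main
import Cfsg.Agent.Lib.Forms.Parity

/-!
`V ⋊ ker(parity)` for the orthogonal group of minus type in dimension eight, `q` even, has the element orders
of `PSp₈(q)`.
-/

set_option autoImplicit false
set_option linter.unusedSectionVars false

namespace Cfsg.Agent.Lib.SpectrumEight

open QuadraticMap

universe u

/-- If the fixed space has even dimension, `1 + A + ⋯ + A ^ (M - 1)` vanishes as soon as the characteristic
polynomial divides `X ^ M - 1`. -/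
theorem geom_sum_eq_zero {F : Type*} [Field F] {V : Type*} [AddCommGroup V] [Module F V] [FiniteDimensional F V]
    (A : Module.End F V) (M : ℕ) (hdvd : A.charpoly ∣ Polynomial.X ^ M - 1)
    (heven : Even (Module.finrank F (LinearMap.ker (A - 1)))) : ∑ i ∈ Finset.range M, A ^ i = 0 := by
  classical
  set P := A.charpoly with hP
  have hP0 : P ≠ 0 := A.charpoly_monic.ne_zero
  obtain ⟨T, hT, hT1⟩ := P.exists_eq_pow_rootMultiplicity_mul_and_not_dvd hP0 1
  set c := P.rootMultiplicity 1 with hc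
  set N : Module.End F V := A - 1 with hN
  have haN : Polynomial.aeval A (Polynomial.X - Polynomial.C (1 : F)) = N := by simp [hN]
  have hG : (∑ i ∈ Finset.range M, Polynomial.X ^ i : Polynomial F) * (Polynomial.X - Polynomial.C 1) =
      Polynomial.X ^ M - 1 := by rw [Polynomial.C_1, geom_sum_mul]
  suffices h : ∃ S : Polynomial F, Polynomial.aeval A S = 0 ∧
      S ∣ ∑ i ∈ Finset.range M, (Polynomial.X : Polynomial F) ^ i by
    obtain ⟨S, hS, U, hU⟩ := h
    have := congrArg (Polynomial.aeval A) hU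
    rw [map_mul, hS, zero_mul, map_sum] at this
    simpa using this
  rcases Nat.eq_zero_or_pos c with hc0 | hcpos
  · refine ⟨P, A.aeval_self_charpoly, ?_⟩
    rw [hc0, pow_zero, one_mul] at hT
    have hcop : IsCoprime (Polynomial.X - Polynomial.C (1 : F)) P := by
      rw [hT]
      exact (Polynomial.irreducible_X_sub_C 1).coprime_iff_not_dvd.2 hT1
    refine hcop.symm.dvd_of_dvd_mul_right ?_
    rw [hG]; exact hdvd
  · refine ⟨(Polynomial.X - Polynomial.C 1) ^ (c - 1) * T, ?_, ?_⟩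
    · -- the nilpotent part has a kernel of dimension at least two
      have hroot : P.IsRoot 1 := (Polynomial.rootMultiplicity_pos hP0).1 hcpos
      have hne : LinearMap.ker N ≠ ⊥ := by
        intro hb
        have hev := (Module.End.hasEigenvalue_iff_isRoot_charpoly A 1).2 hroot
        obtain ⟨v, hv, hv0⟩ := hev.exists_hasEigenvector
        refine hv0 ((Submodule.mem_bot F).1 ?_)
        rw [← hb, LinearMap.mem_ker, hN, LinearMap.sub_apply, Module.End.mem_eigenspace_iff.1 hv]
        simp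
      have h2 : 2 ≤ Module.finrank F (LinearMap.ker N) := by
        obtain ⟨r, hr⟩ := heven
        have : 1 ≤ Module.finrank F (LinearMap.ker N) := Submodule.one_le_finrank_iff.2 hne
        omega
      have hbound : Module.finrank F (LinearMap.ker (N ^ c)) ≤ c := by
        calc Module.finrank F (LinearMap.ker (N ^ c)) ≤ Module.finrank F (Module.End.maxGenEigenspace A (1 : F)) := by
              refine Submodule.finrank_mono fun v hv => ?_
              rw [Module.End.mem_maxGenEigenspace]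
              refine ⟨c, ?_⟩
              rw [one_smul]
              exact hv
          _ = c := by rw [LinearMap.finrank_maxGenEigenspace_eq]
      have hmono : ∀ i, LinearMap.ker (N ^ i) ≤ LinearMap.ker (N ^ (i + 1)) := fun i v hv => by
        rw [LinearMap.mem_ker] at hv ⊢
        rw [pow_succ', Module.End.mul_apply, hv, map_zero]
      have hstab : ∀ i, LinearMap.ker (N ^ i) = LinearMap.ker (N ^ (i + 1)) →
          ∀ j, LinearMap.ker (N ^ (i + j)) = LinearMap.ker (N ^ (i + j + 1)) := by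
        intro i hi j
        induction j with
        | zero => exact hi
        | succ j ih =>
          refine le_antisymm (hmono _) fun v hv => ?_
          rw [LinearMap.mem_ker, pow_succ, Module.End.mul_apply] at hv
          have : N v ∈ LinearMap.ker (N ^ (i + j)) := by rw [ih]; exact hv
          rw [LinearMap.mem_ker] at this
          rw [LinearMap.mem_ker, ← Nat.add_assoc, pow_succ, Module.End.mul_apply, this]
      have heq : LinearMap.ker (N ^ (c - 1)) = LinearMap.ker (N ^ c) := by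
        by_contra hcon
        have hgrow : ∀ i, 1 ≤ i → i ≤ c → i + 1 ≤ Module.finrank F (LinearMap.ker (N ^ i)) := by
          intro i hi
          induction i, hi using Nat.le_induction with
          | base => intro _; rw [pow_one]; exact h2
          | succ i hi ih =>
            intro hic
            have hlt : LinearMap.ker (N ^ i) < LinearMap.ker (N ^ (i + 1)) := by
              refine lt_of_le_of_ne (hmono i) fun he => hcon ?_
              have := hstab i he (c - 1 - i)
              rwa [show i + (c - 1 - i) = c - 1 by omega, show c - 1 + 1 = c by omega] at this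
            have := Submodule.finrank_lt_finrank_of_lt hlt
            have := ih (by omega)
            omega
        have := hgrow c hcpos le_rfl
        omega
      refine LinearMap.ext fun v => ?_
      rw [map_mul, map_pow, haN, Module.End.mul_apply, LinearMap.zero_apply]
      have h1 : Polynomial.aeval A P = 0 := A.aeval_self_charpoly
      rw [hT, map_mul, map_pow, haN] at h1
      have : Polynomial.aeval A T v ∈ LinearMap.ker (N ^ c) := by
        rw [LinearMap.mem_ker, ← Module.End.mul_apply, h1, LinearMap.zero_apply]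
      rw [← heq, LinearMap.mem_ker] at this
      exact this
    · refine (mul_dvd_mul_iff_right (Polynomial.X_sub_C_ne_zero (1 : F))).1 ?_
      rw [hG]
      refine dvd_trans ?_ hdvd
      rw [hT, mul_right_comm, ← pow_succ, show c - 1 + 1 = c by omega]

variable {F : Type u} [Field F] [Fintype F] [CharP F 2]

theorem add_self_vec {W : Type*} [AddCommGroup W] [Module F W] (w : W) : w + w = 0 := by
  rw [← two_smul F, CharTwo.two_eq_zero, zero_smul]

theorem sub_eq_add_vec {W : Type*} [AddCommGroup W] [Module F W] (v w : W) : v - w = v + w := by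
  rw [sub_eq_iff_eq_add, add_assoc, add_self_vec (F := F), add_zero]

section Semi

variable (a b : F)

/-- The index set. -/
abbrev Idx : Type := (Fin 3 ⊕ Fin 3) ⊕ Fin 2

/-- The minus form. -/
abbrev QM : QuadraticForm F (Idx → F) := StdForms.minusQ F 3 a b

variable (hab : ∀ z₁ z₂ : F, z₁ ^ 2 + a * z₁ * z₂ + b * z₂ ^ 2 = 0 → z₁ = 0 ∧ z₂ = 0)

include hab

/-- The parity kernel. -/
noncomputable def evenPart : Subgroup (Cfsg.isometryGroup F ⇑(QM a b)) :=
  (Forms.parityHom (StdForms.minusQ_nondegenerate (k := 3) hab) (Or.inr (by simp))).ker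

/-- The natural action on the vectors. -/
noncomputable def natAct : evenPart a b hab →* MulAut (Multiplicative (Idx → F)) where
  toFun g := AddEquiv.toMultiplicative (Forms.isoToEquiv _ g.1).toAddEquiv
  map_one' := MulEquiv.ext fun x => by simp
  map_mul' g h := MulEquiv.ext fun x => by simp

/-- The affine group. -/
abbrev AffGroup : Type u := Multiplicative (Idx → F) ⋊[natAct a b hab] evenPart a b hab

/-- The linear map of an element. -/
noncomputable abbrev lin (g : evenPart a b hab) : (Idx → F) ≃ₗ[F] (Idx → F) := Forms.isoToEquiv _ g.1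

theorem natAct_apply (g : evenPart a b hab) (v : Idx → F) :
    natAct a b hab g (Multiplicative.ofAdd v) = Multiplicative.ofAdd (lin a b hab g v) := rfl

theorem pow_left (v : Idx → F) (g : evenPart a b hab) (n : ℕ) :
    ((⟨Multiplicative.ofAdd v, g⟩ : AffGroup a b hab) ^ n).right = g ^ n ∧
      ((⟨Multiplicative.ofAdd v, g⟩ : AffGroup a b hab) ^ n).left =
        Multiplicative.ofAdd (∑ i ∈ Finset.range n, (lin a b hab g ^ i) v) := by
  induction n with
  | zero => exact ⟨rfl, rfl⟩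
  | succ n ih =>
    obtain ⟨h1, h2⟩ := ih
    refine ⟨by rw [pow_succ, SemidirectProduct.mul_right, h1, pow_succ], ?_⟩
    rw [pow_succ, SemidirectProduct.mul_left, h1, h2, natAct_apply, Finset.sum_range_succ, ofAdd_add, lin, lin]
    rw [SubgroupClass.coe_pow, map_pow]

theorem aff_pow_eq_one_iff (v : Idx → F) (g : evenPart a b hab) (n : ℕ) :
    (⟨Multiplicative.ofAdd v, g⟩ : AffGroup a b hab) ^ n = 1 ↔
      g ^ n = 1 ∧ ∑ i ∈ Finset.range n, (lin a b hab g ^ i) v = 0 := by
  obtain ⟨h1, h2⟩ := pow_left a b hab v g n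
  rw [SemidirectProduct.ext_iff, SemidirectProduct.one_left, SemidirectProduct.one_right, h1, h2]
  exact ⟨fun h => ⟨h.2, ofAdd_eq_one.1 h.1⟩, fun h => ⟨ofAdd_eq_one.2 h.2, h.1⟩⟩

omit hab in
theorem toEnd_pow {W : Type*} [AddCommGroup W] [Module F W] (e : W ≃ₗ[F] W) (i : ℕ) (w : W) :
    ((e.toLinearMap : Module.End F W) ^ i) w = (e ^ i) w := by
  induction i with
  | zero => rfl
  | succ i ih => rw [pow_succ', Module.End.mul_apply, ih, pow_succ', LinearEquiv.mul_apply]; rfl

theorem charpoly_iso_dvd (g : Cfsg.isometryGroup F ⇑(QM a b)) :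
    ∃ j : Fin 12, LinearMap.charpoly ((Forms.isoToEquiv _ g).toLinearMap) ∣
      Polynomial.X ^ ordTab (Fintype.card F) j - 1 := by
  classical
  have hQ := StdForms.minusQ_nondegenerate (k := 3) hab
  obtain ⟨Ψ, hΨ⟩ := CharTwoQuad.exists_std_equiv (CharTwoQuad.qf_of_quadraticForm (QM a b))
    (fun v h => hQ.2 v h) (m := 4) (by simp)
  set A := (Forms.isoToEquiv (⇑(QM a b)) g) with hA
  set E : Module.End F (Fin 4 ⊕ Fin 4 → F) := Ψ.symm.conj A.toLinearMap with hE
  have hmem : LinearMap.toMatrix' E ∈ Matrix.symplecticGroup (Fin 4) F := by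
    rw [Forms.mem_symplecticGroup_iff_preserves]
    intro u v
    have hg : ∀ w, QM a b (A w) = QM a b w := fun w => Forms.isometryGroup_apply g w
    have hp := Forms.polar_preserves_of_quad (T := A.toLinearMap) hg (Ψ u) (Ψ v)
    rw [LinearMap.toMatrix'_mulVec, LinearMap.toMatrix'_mulVec, ← Forms.sympBilin_apply, ← Forms.sympBilin_apply,
      ← hΨ, ← hΨ]
    simp only [hE, LinearEquiv.conj_apply, LinearMap.comp_apply, LinearEquiv.coe_coe, LinearEquiv.symm_symm,
      LinearEquiv.apply_symm_apply]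
    exact hp
  obtain ⟨j, hj⟩ := charpoly_dvd hmem
  refine ⟨j, ?_⟩
  rwa [← Matrix.charpoly_toLin', Matrix.toLin'_toMatrix', hE, LinearEquiv.charpoly_conj] at hj

theorem aff_orderOf_dvd (z : AffGroup a b hab) :
    ∃ j : Fin 12, orderOf z ∣ ordTab (Fintype.card F) j := by
  obtain ⟨v, g⟩ := z
  obtain ⟨v, rfl⟩ := Multiplicative.ofAdd.surjective v
  obtain ⟨j, hj⟩ := charpoly_iso_dvd a b hab g.1
  set M := ordTab (Fintype.card F) j with hMdef
  refine ⟨j, orderOf_dvd_of_pow_eq_one ((aff_pow_eq_one_iff a b hab v g M).2 ⟨?_, ?_⟩)⟩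
  · obtain ⟨P, hP⟩ := hj
    have h := congrArg (Polynomial.aeval (lin a b hab g).toLinearMap) hP
    rw [map_sub, map_pow, Polynomial.aeval_X, map_one, map_mul, LinearMap.aeval_self_charpoly, zero_mul,
      sub_eq_zero] at h
    refine Subtype.ext (Forms.isoToEquiv_injective _ (LinearEquiv.ext fun w => ?_))
    rw [SubgroupClass.coe_pow, map_pow, ← toEnd_pow, h, OneMemClass.coe_one, map_one]
    rfl
  · have heven : Even (Module.finrank F (LinearMap.ker ((lin a b hab g).toLinearMap - 1 : Module.End F (Idx → F)))) := by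
      have h : Forms.parity g.1 = 1 := g.2
      rw [Forms.parity] at h
      have h' := neg_one_pow_eq_one_iff_even (R := ℤˣ) (by decide) |>.1 h
      rw [Nat.even_add] at h'
      exact h'.1 (by simp [Fintype.card_sum]; decide)
    have h := LinearMap.congr_fun (geom_sum_eq_zero _ M hj heven) v
    rw [LinearMap.sum_apply, LinearMap.zero_apply] at h
    rw [← h]
    exact Finset.sum_congr rfl fun i _ => (toEnd_pow _ i v).symm

/-- An element `g` acting as `x` on the image of `i₁` and as `t` on the image of `i₂` gives an element of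
order `2 ^ (e + 1) * m`. -/
theorem aff_orderOf {W₁ W₂ : Type*} [AddCommGroup W₁] [Module F W₁] [AddCommGroup W₂] [Module F W₂]
    (g : evenPart a b hab) (i₁ : W₁ →ₗ[F] (Idx → F)) (i₂ : W₂ →ₗ[F] (Idx → F))
    (h₁ : Function.Injective i₁) (h₂ : Function.Injective i₂) (x : W₁ ≃ₗ[F] W₁) (t : W₂ ≃ₗ[F] W₂)
    (hx : ∀ u, lin a b hab g (i₁ u) = i₁ (x u)) (ht : ∀ y, lin a b hab g (i₂ y) = i₂ (t y))
    {e m : ℕ} (hm : Odd m) (htm : orderOf t = m) (hx2 : x ^ 2 ^ e = 1) (hg : g ^ (2 ^ e * m) = 1)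
    {w : W₁} (hw : ∑ i ∈ Finset.range (2 ^ e), (x ^ i) w ≠ 0) :
    orderOf (⟨Multiplicative.ofAdd (i₁ w), g⟩ : AffGroup a b hab) = 2 ^ (e + 1) * m := by
  set z : AffGroup a b hab := ⟨Multiplicative.ofAdd (i₁ w), g⟩ with hz
  have hiter : ∀ (n : ℕ) u, (lin a b hab g ^ n) (i₁ u) = i₁ ((x ^ n) u) := by
    intro n
    induction n with
    | zero => intro u; rfl
    | succ n ih => intro u; rw [pow_succ', LinearEquiv.mul_apply, ih, hx, pow_succ', LinearEquiv.mul_apply]
  have hiter2 : ∀ (n : ℕ) y, (lin a b hab g ^ n) (i₂ y) = i₂ ((t ^ n) y) := by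
    intro n
    induction n with
    | zero => intro u; rfl
    | succ n ih => intro u; rw [pow_succ', LinearEquiv.mul_apply, ih, ht, pow_succ', LinearEquiv.mul_apply]
  have hper : ∀ k : ℕ, ∑ i ∈ Finset.range (2 ^ e * k), (x ^ i) w = k • ∑ i ∈ Finset.range (2 ^ e), (x ^ i) w := by
    intro k
    induction k with
    | zero => simp
    | succ k ih =>
      rw [mul_add, mul_one, Finset.sum_range_add, ih, succ_nsmul]
      congr 1
      exact Finset.sum_congr rfl fun i _ => by rw [pow_add, pow_mul, hx2, one_pow, one_mul]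
  have hsum : ∑ i ∈ Finset.range (2 ^ e * m), (lin a b hab g ^ i) (i₁ w) =
      i₁ (∑ i ∈ Finset.range (2 ^ e), (x ^ i) w) := by
    rw [Finset.sum_congr rfl fun i _ => hiter i w, ← map_sum, hper]
    obtain ⟨k, rfl⟩ := hm
    rw [add_smul, one_smul, mul_smul, two_nsmul, add_self_vec (F := F), zero_add]
  have hnot : z ^ (2 ^ e * m) ≠ 1 := fun h => by
    obtain ⟨-, h'⟩ := (aff_pow_eq_one_iff a b hab _ g _).1 h
    rw [hsum] at h'
    exact hw (h₁ (h'.trans (map_zero i₁).symm))
  have hyes : z ^ (2 ^ (e + 1) * m) = 1 := by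
    obtain ⟨hr, hl⟩ := pow_left a b hab (i₁ w) g (2 ^ e * m)
    rw [hg] at hr
    set y := z ^ (2 ^ e * m) with hy
    have hy2 : y * y = 1 := by
      refine SemidirectProduct.ext ?_ ?_
      · rw [SemidirectProduct.mul_left, hr, map_one, MulAut.one_apply]
        exact Multiplicative.toAdd.injective (add_self_vec (F := F) y.left.toAdd)
      · rw [SemidirectProduct.mul_right, hr, mul_one]; rfl
    rw [show 2 ^ (e + 1) * m = 2 ^ e * m + 2 ^ e * m by ring, pow_add, ← hy, hy2]
  have hdvd : orderOf z ∣ 2 ^ (e + 1) * m := orderOf_dvd_of_pow_eq_one hyes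
  have hmd : m ∣ orderOf z := by
    rw [← htm]
    refine orderOf_dvd_of_pow_eq_one (LinearEquiv.ext fun y => h₂ ?_)
    obtain ⟨h, -⟩ := (aff_pow_eq_one_iff a b hab _ g _).1 (pow_orderOf_eq_one z)
    rw [← hiter2, lin, ← map_pow, ← SubgroupClass.coe_pow, h, OneMemClass.coe_one, map_one]
    rfl
  obtain ⟨c, hc⟩ := hmd
  have hm0 : 0 < m := hm.pos
  have hc2 : c ∣ 2 ^ (e + 1) := by
    rw [hc, mul_comm m c] at hdvd
    exact Nat.dvd_of_mul_dvd_mul_right hm0 hdvd
  obtain ⟨i, hi, rfl⟩ := (Nat.dvd_prime_pow Nat.prime_two).1 hc2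
  rcases hi.lt_or_eq with hlt | rfl
  · exact absurd (orderOf_dvd_iff_pow_eq_one.1 (by
      rw [hc, mul_comm]; exact Nat.mul_dvd_mul_right (pow_dvd_pow 2 (Nat.lt_succ_iff.1 hlt)) m)) hnot
  · rw [hc, mul_comm]

theorem parity_of_sq (g : Cfsg.isometryGroup F ⇑(QM a b)) : g ^ 2 ∈ evenPart a b hab := by
  rw [evenPart, MonoidHom.mem_ker, map_pow, pow_two, Int.units_mul_self]

theorem exists_odd (j : Fin 12) (hj : eTab j = 0) :
    ∃ z : AffGroup a b hab, orderOf z = ordTab (Fintype.card F) j := by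
  obtain ⟨g, hg⟩ : ∃ g : Cfsg.isometryGroup F (⇑(QM a b)), orderOf g = ordTab (Fintype.card F) j := by
    rw [QM, StdForms.coe_minusQ]; exact exists_iso_element a b hab j
  have hodd : Odd (orderOf g) := by
    rw [hg, ordTab, hj, pow_zero, one_mul]; exact even_mTab even_card Fintype.card_ne_zero j
  obtain ⟨k, hk⟩ := hodd
  have hgK : (g : Cfsg.isometryGroup F (⇑(QM a b))) ∈ evenPart a b hab := by
    have h : (g : Cfsg.isometryGroup F (⇑(QM a b))) = (g ^ (k + 1)) ^ 2 := by
      rw [← pow_mul, show (k + 1) * 2 = (2 * k + 1) + 1 by ring, pow_succ, ← hk, pow_orderOf_eq_one, one_mul]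
    rw [h]; exact parity_of_sq a b hab _
  exact ⟨SemidirectProduct.inr ⟨g, hgK⟩, by
    rw [orderOf_injective _ SemidirectProduct.inr_injective, Subgroup.orderOf_mk]; exact hg⟩

/-- Transport of an orthogonal sum to the standard minus space. -/
theorem exists_frame {k l : ℕ} (hkl : k + l = 4) {R₁ : QuadraticForm F (Fin (2 * k) → F)}
    {R₂ : QuadraticForm F (Fin (2 * l) → F)} (h₁ : (polarBilin R₁).Nondegenerate)
    (h₂ : (polarBilin R₂).Nondegenerate) (hs : OrthPrime.qsgn R₁ * OrthPrime.qsgn R₂ = -1) :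
    ∃ φ : ((Fin (2 * k) → F) × (Fin (2 * l) → F)) ≃ₗ[F] (Idx → F), ∀ z, QM a b (φ z) = R₁.prod R₂ z := by
  have hd1 : Module.finrank F (Fin (2 * k) → F) = 2 * k := Module.finrank_fin_fun F
  have hd2 : Module.finrank F (Fin (2 * l) → F) = 2 * l := Module.finrank_fin_fun F
  have hhyp : FormConj.IsHyp (R₁.prod R₂) ↔ FormConj.IsHyp (QM a b) := by
    have hn : ¬ FormConj.IsHyp (R₁.prod R₂) := fun h => by
      have h' := (OrthPrime.qsgn_eq_one_iff _).2 h
      rw [OrthPrime.qsgn_prod hd1 hd2 h₁ h₂, hs] at h'; norm_num at h'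
    exact iff_of_false hn (FormConj.not_isHyp_minusQ 3 hab)
  exact FormConj.exists_isometry_of_type (m := 4) (by norm_num)
    (by rw [Module.finrank_prod, hd1, hd2]; omega) (by simp) (FormConj.prod_nondegenerate h₁ h₂)
    (StdForms.minusQ_nondegenerate (k := 3) hab) hhyp

/-- The isometry of the standard space built from two isometries. -/
theorem exists_glue {V₁ V₂ : Type*} [AddCommGroup V₁] [Module F V₁] [AddCommGroup V₂] [Module F V₂]
    {R₁ : QuadraticForm F V₁} {R₂ : QuadraticForm F V₂} (φ : (V₁ × V₂) ≃ₗ[F] (Idx → F))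
    (hφ : ∀ z, QM a b (φ z) = R₁.prod R₂ z) (x : V₁ ≃ₗ[F] V₁) (t : V₂ ≃ₗ[F] V₂) (hx : ∀ u, R₁ (x u) = R₁ u)
    (ht : ∀ y, R₂ (t y) = R₂ y) :
    ∃ g : Cfsg.isometryGroup F ⇑(QM a b),
      (∀ z, Forms.isoToEquiv _ g (φ z) = φ (x z.1, t z.2)) ∧
      ∀ n : ℕ, x ^ n = 1 → t ^ n = 1 → g ^ n = 1 := by
  let e := conjHom φ (prodHom (F := F) V₁ V₂ (x, t))
  have he : ∀ v, QM a b (e v) = QM a b v := fun v => by
    obtain ⟨z, rfl⟩ := φ.surjective v
    show QM a b (φ ((prodHom (F := F) V₁ V₂ (x, t)) (φ.symm (φ z)))) = _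
    rw [φ.symm_apply_apply, hφ, hφ]
    show R₁.prod R₂ (x z.1, t z.2) = _
    simp [QuadraticMap.prod_apply, hx, ht]
  refine ⟨Forms.isoMk e he, fun z => ?_, fun n h1 h2 => Forms.isoToEquiv_injective _ ?_⟩
  · rw [Forms.isoToEquiv_isoMk]
    show φ ((prodHom (F := F) V₁ V₂ (x, t)) (φ.symm (φ z))) = _
    rw [φ.symm_apply_apply]; rfl
  · rw [map_pow, Forms.isoToEquiv_isoMk, map_one, ← map_pow, ← map_pow, Prod.pow_mk, h1, h2]
    exact map_one ((conjHom φ).comp (prodHom (F := F) V₁ V₂))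

/-- Orders `2 ^ (e + 1) * m` from a square `x ^ 2` and an odd torus element. -/
theorem exists_of_square {k l : ℕ} (hkl : k + l = 4) {R₁ : QuadraticForm F (Fin (2 * k) → F)}
    (x : (Fin (2 * k) → F) ≃ₗ[F] (Fin (2 * k) → F)) (h₁ : (polarBilin R₁).Nondegenerate)
    (hx : ∀ u, R₁ (x u) = R₁ u) {s : ℤ} {m : ℕ} (hm : Odd m) (ht : Ord F l s m)
    (hs : OrthPrime.qsgn R₁ * s = -1) {e : ℕ} (hx2 : (x ^ 2) ^ 2 ^ e = 1) {w : Fin (2 * k) → F}
    (hw : ∑ i ∈ Finset.range (2 ^ e), ((x ^ 2) ^ i) w ≠ 0) :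
    ∃ z : AffGroup a b hab, orderOf z = 2 ^ (e + 1) * m := by
  obtain ⟨R₂, t, h₂, hs₂, ht', hto⟩ := ht
  obtain ⟨φ, hφ⟩ := exists_frame a b hab hkl h₁ h₂ (by rw [hs₂, hs])
  obtain ⟨r, hr⟩ := hm
  obtain ⟨g, hg, hgn⟩ := exists_glue a b hab φ hφ x (t ^ (r + 1)) hx (pow_iso ht' _)
  refine ⟨_, aff_orderOf a b hab ⟨g ^ 2, parity_of_sq a b hab g⟩
    (φ.toLinearMap ∘ₗ LinearMap.inl F _ _) (φ.toLinearMap ∘ₗ LinearMap.inr F _ _)
    (φ.injective.comp LinearMap.inl_injective) (φ.injective.comp LinearMap.inr_injective) (x ^ 2) t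
    (fun u => ?_) (fun y => ?_) ⟨r, hr⟩ hto hx2 ?_ hw⟩
  · show Forms.isoToEquiv _ (g ^ 2) (φ (u, 0)) = φ ((x ^ 2) u, 0)
    rw [map_pow, pow_two, pow_two, LinearEquiv.mul_apply, hg, hg, LinearEquiv.mul_apply, map_zero, map_zero]
  · show Forms.isoToEquiv _ (g ^ 2) (φ (0, y)) = φ (0, t y)
    rw [map_pow, pow_two, LinearEquiv.mul_apply, hg, hg, map_zero, map_zero]
    show φ (0, (t ^ (r + 1)) ((t ^ (r + 1)) y)) = _
    rw [← LinearEquiv.mul_apply, ← pow_add, show r + 1 + (r + 1) = m + 1 by omega, pow_succ, ← hto,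
      pow_orderOf_eq_one, one_mul]
  · refine Subtype.ext ?_
    show (g ^ 2) ^ (2 ^ e * m) = 1
    rw [← pow_mul]
    refine hgn _ ?_ ?_
    · rw [pow_mul, pow_mul, hx2, one_pow]
    · rw [← pow_mul]
      refine orderOf_dvd_iff_pow_eq_one.1 ?_
      rw [hto]
      exact Dvd.dvd.mul_left (Dvd.dvd.mul_left (dvd_mul_left _ _) _) _

/-- Orders `8 * m` from a block of length four, corrected by a reflection if necessary. -/
theorem exists_eight {s : ℤ} {m : ℕ} (hm : Odd m) (ht : Ord F 1 s m) {u : ℤ} (hu : u = 1 ∨ u = -1)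
    (hs : u * s = -1) : ∃ z : AffGroup a b hab, orderOf z = 8 * m := by
  classical
  obtain ⟨R₁, x, w, h₁, hs₁, hx, hx4, hw⟩ := unip_two (F := F) (Or.inl rfl)
  obtain ⟨RP, -, hP, hsP, -, -⟩ : Ord F 1 u 1 := (ord_two hu).of_dvd (one_dvd _)
  obtain ⟨c, hc⟩ : ∃ c, RP c ≠ 0 := by
    by_contra hcon
    push Not at hcon
    have h0 : (Pi.single 0 1 : Fin (2 * 1) → F) = 0 := hP.1 _ fun y => by simp [polar, hcon]
    simpa using congrFun h0 0
  obtain ⟨R₂, t, h₂, hs₂, ht', hto⟩ := ht
  have hd1 : Module.finrank F (Fin (2 * 2) → F) = 2 * 2 := Module.finrank_fin_fun F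
  have hdP : Module.finrank F (Fin (2 * 1) → F) = 2 * 1 := Module.finrank_fin_fun F
  have hd6 : Module.finrank F ((Fin (2 * 2) → F) × (Fin (2 * 1) → F)) = 2 * 3 := by
    rw [Module.finrank_prod, hd1, hdP]
  have hd2 : Module.finrank F (Fin (2 * 1) → F) = 2 * 1 := hdP
  have h6 := FormConj.prod_nondegenerate h₁ hP
  have hhyp : FormConj.IsHyp ((R₁.prod RP).prod R₂) ↔ FormConj.IsHyp (QM a b) := by
    have hn : ¬ FormConj.IsHyp ((R₁.prod RP).prod R₂) := fun h => by
      have h' := (OrthPrime.qsgn_eq_one_iff _).2 h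
      rw [OrthPrime.qsgn_prod hd6 hd2 h6 h₂, OrthPrime.qsgn_prod hd1 hdP h₁ hP, hs₁, hsP, hs₂, one_mul, hs] at h'
      norm_num at h'
    exact iff_of_false hn (FormConj.not_isHyp_minusQ 3 hab)
  obtain ⟨φ, hφ⟩ := FormConj.exists_isometry_of_type (m := 4) (by norm_num)
    (by rw [Module.finrank_prod, hd6, hd2]) (by simp) (FormConj.prod_nondegenerate h6 h₂)
    (StdForms.minusQ_nondegenerate (k := 3) hab) hhyp
  have hx1 : x ^ 4 = 1 := LinearEquiv.ext fun v => by
    have h := hx4 v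
    rw [show (4 : ℕ) = 2 ^ 2 from rfl, dlt_pow_two, dlt, sub_eq_zero] at h
    exact h
  let x6 := prodHom (F := F) (Fin (2 * 2) → F) (Fin (2 * 1) → F) (x, 1)
  have hx6 : ∀ v, R₁.prod RP (x6 v) = R₁.prod RP v := fun v => by
    show R₁.prod RP (x v.1, v.2) = _
    simp [QuadraticMap.prod_apply, hx]
  obtain ⟨g, hg, hgn⟩ := exists_glue a b hab φ hφ x6 t hx6 ht'
  have hgm : g ^ (4 * m) = 1 := by
    refine hgn _ ?_ (orderOf_dvd_iff_pow_eq_one.1 (hto ▸ dvd_mul_left _ _))
    rw [← map_pow, Prod.pow_mk, pow_mul, hx1, one_pow, one_pow]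
    exact map_one _
  -- the correcting reflection
  set c' := φ (((0 : Fin (2 * 2) → F), c), (0 : Fin (2 * 1) → F)) with hc'
  have hQc : QM a b c' ≠ 0 := by rw [hc', hφ]; simpa [QuadraticMap.prod_apply] using hc
  set ρ := Forms.reflElem (Q := QM a b) hQc with hρ
  let i₁ : (Fin (2 * 2) → F) →ₗ[F] (Idx → F) :=
    φ.toLinearMap ∘ₗ LinearMap.inl F _ _ ∘ₗ LinearMap.inl F _ _
  let i₂ : (Fin (2 * 1) → F) →ₗ[F] (Idx → F) := φ.toLinearMap ∘ₗ LinearMap.inr F _ _
  have hpol : ∀ z z', polar ⇑(QM a b) (φ z) (φ z') = polar ⇑((R₁.prod RP).prod R₂) z z' := fun z z' => by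
    simp only [polar, ← map_add, hφ]
  have hfix : ∀ v, polar ⇑(QM a b) c' v = 0 → Forms.isoToEquiv _ ρ v = v := fun v hv => by
    rw [Forms.isoToEquiv_apply, hρ, Forms.reflElem_mulVec, hv, mul_zero, zero_smul, sub_zero]
  have hfix1 : ∀ v, Forms.isoToEquiv _ ρ (i₁ v) = i₁ v := fun v => hfix _ (by
    show polar ⇑(QM a b) c' (φ ((v, 0), 0)) = 0
    rw [hc', hpol]; simp [polar, QuadraticMap.prod_apply])
  have hfix2 : ∀ v, Forms.isoToEquiv _ ρ (i₂ v) = i₂ v := fun v => hfix _ (by
    show polar ⇑(QM a b) c' (φ ((0, 0), v)) = 0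
    rw [hc', hpol]; simp [polar, QuadraticMap.prod_apply])
  have hρg : g * ρ * g⁻¹ = ρ := by
    have hgc : Forms.isoToEquiv _ g c' = c' := by
      rw [hc', hg]
      show φ (((x 0, c)), t 0) = _
      rw [map_zero, map_zero]
    refine Forms.isoToEquiv_injective _ (LinearEquiv.ext fun v => ?_)
    obtain ⟨v, rfl⟩ := (Forms.isoToEquiv _ g).surjective v
    rw [← LinearEquiv.mul_apply, ← map_mul, inv_mul_cancel_right, map_mul, LinearEquiv.mul_apply]
    have hpg := Forms.polar_preserves_of_quad (T := (Forms.isoToEquiv _ g).toLinearMap)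
      (fun w => Forms.isometryGroup_apply g w) c' v
    simp only [LinearEquiv.coe_coe, hgc] at hpg
    rw [Forms.isoToEquiv_apply ρ, hρ, Forms.reflElem_mulVec, Forms.isoToEquiv_apply (Forms.reflElem hQc),
      Forms.reflElem_mulVec, map_sub, map_smul, hgc, hpg]
  have hcomm : Commute g ρ := mul_inv_eq_iff_eq_mul.1 hρg
  -- choose the even one
  obtain ⟨g', hg'K, h1, h2, hn⟩ : ∃ g', g' ∈ evenPart a b hab ∧
      (∀ v, Forms.isoToEquiv _ g' (i₁ v) = i₁ (x v)) ∧ (∀ y, Forms.isoToEquiv _ g' (i₂ y) = i₂ (t y)) ∧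
      g' ^ (4 * m) = 1 := by
    have hga : ∀ v, Forms.isoToEquiv _ g (i₁ v) = i₁ (x v) := fun v => by
      show Forms.isoToEquiv _ g (φ ((v, 0), 0)) = φ ((x v, 0), 0)
      rw [hg]
      show φ ((x v, 0), t 0) = _
      rw [map_zero]
    have hgb : ∀ y, Forms.isoToEquiv _ g (i₂ y) = i₂ (t y) := fun y => by
      show Forms.isoToEquiv _ g (φ (0, y)) = φ (0, t y)
      rw [hg, map_zero]
    by_cases hK : g ∈ evenPart a b hab
    · exact ⟨g, hK, hga, hgb, hgm⟩
    · refine ⟨g * ρ, ?_, fun v => by rw [map_mul, LinearEquiv.mul_apply, hfix1, hga],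
        fun y => by rw [map_mul, LinearEquiv.mul_apply, hfix2, hgb], ?_⟩
      · rw [evenPart, MonoidHom.mem_ker, map_mul, hρ, Forms.parityHom_reflElem]
        rcases Int.units_eq_one_or (Forms.parityHom _ _ g) with h | h
        · exact absurd h hK
        · rw [h]; rfl
      · rw [hcomm.mul_pow, hgm, one_mul, show 4 * m = 2 * (2 * m) by ring, pow_mul, pow_two, hρ,
          Forms.reflElem_mul_self, one_pow]
  refine ⟨_, aff_orderOf a b hab ⟨g', hg'K⟩ i₁ i₂
    (φ.injective.comp (LinearMap.inl_injective.comp LinearMap.inl_injective))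
    (φ.injective.comp LinearMap.inr_injective) x t h1 h2 hm hto (e := 2) hx1 (Subtype.ext hn) (w := w) ?_⟩
  convert hw using 1
  simp only [Function.iterate_succ_apply', Function.iterate_zero_apply, dlt, map_sub, sub_eq_add_vec (F := F),
    map_add]
  simp only [show (2 : ℕ) ^ 2 = 4 from rfl, Finset.sum_range_succ, Finset.sum_range_zero, zero_add, pow_succ',
    LinearEquiv.mul_apply, pow_zero, LinearEquiv.coe_one, id_eq]
  have h := fun v : Fin (2 * 2) → F => add_self_vec (F := F) v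
  linear_combination (norm := module) -(1 : F) • (h (x (x w)) + h (x w))

theorem exists_all (j : Fin 12) : ∃ z : AffGroup a b hab, orderOf z = ordTab (Fintype.card F) j := by
  set q := Fintype.card F with hqdef
  have hq0 : q ≠ 0 := Fintype.card_ne_zero
  have hq : Even q := even_card
  have h3 : q ≠ 3 := fun h => by rw [h] at hq; exact absurd hq (by decide)
  have hP : ∀ d, 1 ≤ d → Ord F d 1 (q ^ d - 1) := fun d hd => ord_plus hd
  have hM : ∀ d, 1 ≤ d → Ord F d (-1) (q ^ d + 1) := fun d hd => ord_minus hd (Or.inr h3)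
  have hodd := fun i => even_mTab hq hq0 i
  have hP1 : Ord F 1 1 (q - 1) := by simpa using hP 1 le_rfl
  have hM1 : Ord F 1 (-1) (q + 1) := by simpa using hM 1 le_rfl
  have hc2 := coprime_succ_pred hq hq0 (i := 2) (by norm_num)
  have hd2a : q + 1 ∣ q ^ 2 - 1 := ⟨q - 1, by simpa using Nat.sq_sub_sq q 1⟩
  have hd2b : q - 1 ∣ q ^ 2 - 1 := ⟨q + 1, by rw [mul_comm]; simpa using Nat.sq_sub_sq q 1⟩
  -- order `2 m` : an odd element fixing a plane
  have two : ∀ {s : ℤ} {m : ℕ} (u : ℤ), (u = 1 ∨ u = -1) → Ord F 3 s m → Odd m → u * s = -1 →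
      ∃ z : AffGroup a b hab, orderOf z = 2 ^ (0 + 1) * m := by
    intro s m u hu ht hm hs
    obtain ⟨R₁, -, hR, hsR, -, -⟩ : Ord F 1 u 1 := (ord_two hu).of_dvd (one_dvd _)
    refine exists_of_square a b hab (k := 1) (l := 3) rfl 1 hR (fun v => rfl) hm ht (by rw [hsR, hs])
      (e := 0) (by simp) (w := Pi.single 0 1) ?_
    simp
  -- order `4 m`
  have four : ∀ {s : ℤ} {m : ℕ} (u : ℤ), (u = 1 ∨ u = -1) → Ord F 2 s m → Odd m → u * s = -1 →
      ∃ z : AffGroup a b hab, orderOf z = 2 ^ (1 + 1) * m := by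
    intro s m u hu ht hm hs
    obtain ⟨R₁, x, w, hR, hsR, hx, hx4, hw⟩ := unip_two (F := F) hu
    refine exists_of_square a b hab (k := 2) (l := 2) rfl x hR hx hm ht (by rw [hsR, hs]) (e := 1) ?_ (w := w) ?_
    · refine LinearEquiv.ext fun v => ?_
      have h := hx4 v
      rw [show (4 : ℕ) = 2 ^ 2 from rfl, dlt_pow_two, dlt, sub_eq_zero] at h
      rw [← pow_mul]; exact h
    · intro h
      apply hw
      rw [show (3 : ℕ) = 1 + 2 ^ 1 from rfl, Function.iterate_add_apply, dlt_pow_two, dlt,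
        sub_eq_add_vec (F := F)]
      rw [pow_one, Finset.sum_range_succ, Finset.sum_range_one, pow_zero, pow_one, LinearEquiv.coe_one, id_eq] at h
      rw [show (2 : ℕ) ^ 1 = 2 from rfl, add_comm, h, dlt_iterate_zero]
  fin_cases j
  · exact exists_odd a b hab 0 rfl
  · exact exists_odd a b hab 1 rfl
  · exact exists_odd a b hab 2 rfl
  · exact exists_odd a b hab 3 rfl
  · simpa [ordTab, eTab, mTab] using two 1 (Or.inl rfl) (hM 3 (by norm_num)) (hodd 4) rfl
  · simpa [ordTab, eTab, mTab] using two (-1) (Or.inr rfl) (hP 3 (by norm_num)) (hodd 5) rfl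
  · have h := (hM 2 (by norm_num)).sum hM1
    rw [(hc2.coprime_dvd_right hd2a).lcm_eq_mul] at h
    simpa [ordTab, eTab, mTab] using two (-1) (Or.inr rfl) h (hodd 6) rfl
  · have h := (hM 2 (by norm_num)).sum hP1
    rw [(hc2.coprime_dvd_right hd2b).lcm_eq_mul] at h
    simpa [ordTab, eTab, mTab] using two 1 (Or.inl rfl) h (hodd 7) rfl
  · simpa [ordTab, eTab, mTab] using four 1 (Or.inl rfl) (hM 2 (by norm_num)) (hodd 8) rfl
  · simpa [ordTab, eTab, mTab] using four (-1) (Or.inr rfl) (hP 2 (by norm_num)) (hodd 9) rfl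
  · simpa [ordTab, eTab, mTab] using exists_eight a b hab (hodd 10) hM1 (Or.inl rfl) rfl
  · simpa [ordTab, eTab, mTab] using exists_eight a b hab (hodd 11) hP1 (Or.inr rfl) rfl

theorem aff_spectrum :
    Set.range (orderOf : AffGroup a b hab → ℕ) = Set.range (orderOf : Cfsg.PSp 4 F → ℕ) := by
  have hspec := spectrum_eq a b hab
  haveI : Finite (AffGroup a b hab) := Finite.of_injective
    (fun z : AffGroup a b hab => (z.left, z.right)) fun z z' h =>
      SemidirectProduct.ext (congrArg Prod.fst h) (congrArg Prod.snd h)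
  ext n
  constructor
  · rintro ⟨z, rfl⟩
    obtain ⟨j, hj⟩ := aff_orderOf_dvd a b hab z
    rw [hspec]
    obtain ⟨g, hg⟩ := exists_iso_element a b hab j
    exact ElementOrders.exists_orderOf_eq_of_dvd (x := g) (hg ▸ hj)
  · rintro ⟨x, rfl⟩
    obtain ⟨g, rfl⟩ := QuotientGroup.mk_surjective x
    obtain ⟨j, hj⟩ := sp_pow_eq_one g
    obtain ⟨z, hz⟩ := exists_all a b hab j
    exact ElementOrders.exists_orderOf_eq_of_dvd (x := z)
      (hz ▸ (orderOf_map_dvd (QuotientGroup.mk' _) g).trans hj)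

end Semi

end Cfsg.Agent.Lib.SpectrumEight
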